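import Cfsg.Agent.Lib.PCore.PSolvable
import Cfsg.Agent.Lib.HallHigman.PLength
import Cfsg.Agent.Lib.Techniques.PPrimeP
import Mathlib.GroupTheory.Nilpotent
import Cfsg.Agent.Lib.OddOrder.PuigSeries

/-!
`O_{p',p}` under homomorphisms, on chief factors, and the p-length of subgroups.
-/

set_option autoImplicit false
set_option linter.unusedSectionVars false
set_option linter.style.haveILetI false

namespace CfsgLib.Powell

open Subgroup Cfsg CfsgLib.PCore

variable {p : ℕ} [hp : Fact p.Prime] {G : Type*} [Group G] [Finite G] {H : Type*} [Group H]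
  [Finite H]

theorem exists_pow_mem_core {x : G} (hx : x ∈ pPrimePCore p G) :
    ∃ k : ℕ, x ^ p ^ k ∈ pPrimeCore p G := by
  obtain ⟨k, hk⟩ := pCore_isPGroup (G := G ⧸ pPrimeCore p G) (p := p) ⟨QuotientGroup.mk' _ x, hx⟩
  refine ⟨k, (QuotientGroup.eq_one_iff _).1 ?_⟩
  simpa using congrArg Subtype.val hk

theorem le_pPrimePCore_of_pow {X : Subgroup G} [X.Normal]
    (h : ∀ x ∈ X, ∃ k : ℕ, x ^ p ^ k ∈ pPrimeCore p G) : X ≤ pPrimePCore p G := by
  refine map_le_iff_le_comap.1 (le_pCore
    (Normal.map inferInstance _ (QuotientGroup.mk'_surjective _)) ?_)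
  rintro ⟨_, x, hx, rfl⟩
  obtain ⟨k, hk⟩ := h x hx
  refine ⟨k, Subtype.ext ?_⟩
  simpa [← QuotientGroup.mk_pow, QuotientGroup.eq_one_iff] using hk

theorem comap_pPrimePCore_le (f : H →* G) (hf : Function.Injective f) :
    (pPrimePCore p G).comap f ≤ pPrimePCore p H := by
  refine le_pPrimePCore_of_pow fun x hx => ?_
  obtain ⟨k, hk⟩ := exists_pow_mem_core (show f x ∈ pPrimePCore p G from hx)
  exact ⟨k, comap_pPrimeCore_le f hf (show f (x ^ p ^ k) ∈ pPrimeCore p G by rwa [map_pow])⟩

theorem map_pPrimePCore_le (f : G →* H) (hf : Function.Surjective f) :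
    (pPrimePCore p G).map f ≤ pPrimePCore p H := by
  haveI : ((pPrimePCore p G).map f).Normal := Normal.map inferInstance f hf
  refine le_pPrimePCore_of_pow ?_
  rintro _ ⟨x, hx, rfl⟩
  obtain ⟨k, hk⟩ := exists_pow_mem_core hx
  exact ⟨k, map_pPrimeCore_le f hf ⟨_, hk, map_pow f x _⟩⟩

theorem pLengthLE_of_injective (f : H →* G) (hf : Function.Injective f) {k : ℕ}
    (h : PLengthLE p k G) : PLengthLE p k H := by
  unfold PLengthLE at h ⊢
  have hd : ∀ n, ((upperPSeries p G n).1.comap f).relIndex ((upperPSeries p G (n + 1)).1.comap f) ∣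
      (upperPSeries p G n).1.relIndex (upperPSeries p G (n + 1)).1 := fun n => by
    rw [relIndex_comap]
    haveI := (upperPSeries p G n).2
    exact relIndex_dvd_of_normal_le (map_comap_le _ _)
  have key := CfsgLib.HallHigman.le_upper_of_series (p := p) 0 (by decide)
    (fun n => (upperPSeries p G n).1.comap f) (fun n => (upperPSeries p G n).2.comap f)
    (by simp [upperPSeries_zero, MonoidHom.comap_bot, (MonoidHom.ker_eq_bot_iff f).2 hf])
    (fun n hn => Nat.Coprime.coprime_dvd_left (hd n) (CfsgLib.HallHigman.relIndex_upper_coprime hn))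
    (fun n hn => by
      obtain ⟨m, hm⟩ := CfsgLib.HallHigman.relIndex_upper_pow (p := p) (G := G) hn
      obtain ⟨i, -, hi⟩ := (Nat.dvd_prime_pow hp.out).1 (hm ▸ hd n)
      exact ⟨i, hi⟩) (2 * k + 1)
  simp only [h, comap_top, add_zero] at key
  exact top_le_iff.1 key

theorem pLengthLE_of_surjective_ker {H' : Type*} [Group H'] [Finite H'] (f : G →* H)
    (hf : Function.Surjective f) (g : G →* H') (hg : Function.Surjective g) (hker : f.ker ≤ g.ker)
    {k : ℕ} (h : PLengthLE p k H) : PLengthLE p k H' := by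
  let φ : H →* H' := MonoidHom.liftOfSurjective f hf ⟨g, hker⟩
  refine CfsgLib.HallHigman.pLengthLE_of_surjective φ (fun y => ?_) h
  obtain ⟨x, rfl⟩ := hg y
  exact ⟨f x, MonoidHom.liftOfRightInverse_comp_apply _ _ _ _ x⟩

theorem pLengthLE_quotient_pPrimePCore {k : ℕ} (h : PLengthLE p (k + 1) G) :
    PLengthLE p k (G ⧸ pPrimePCore p G) := by
  have h1 := CfsgLib.HallHigman.pLengthLE_quotient_pCore
    (pPrimeCore_quotient_pPrimeCore (p := p) (G := G))
    (CfsgLib.HallHigman.pLengthLE_quotient (pPrimeCore p G) h)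
  refine pLengthLE_of_surjective_ker ((QuotientGroup.mk' _).comp (QuotientGroup.mk' _))
    ((QuotientGroup.mk'_surjective _).comp (QuotientGroup.mk'_surjective _))
    (QuotientGroup.mk' (pPrimePCore p G)) (QuotientGroup.mk'_surjective _) ?_ h1
  rw [← MonoidHom.comap_ker, QuotientGroup.ker_mk', QuotientGroup.ker_mk']
  exact le_rfl

/-- If `N` contains `O_{p',p}` and the quotient has `p`-length above `k`, then `G` has `p`-length
above `k + 1`. -/
theorem not_pLengthLE_succ (f : G →* H) (hf : Function.Surjective f) (hU : pPrimePCore p G ≤ f.ker)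
    {k : ℕ} (h : ¬ PLengthLE p k H) : ¬ PLengthLE p (k + 1) G := fun hG =>
  h (pLengthLE_of_surjective_ker (QuotientGroup.mk' _) (QuotientGroup.mk'_surjective _) f hf
    (by rw [QuotientGroup.ker_mk']; exact hU) (pLengthLE_quotient_pPrimePCore hG))

theorem pLengthLE_zero_of_coprime (h : (Nat.card G).Coprime p) (k : ℕ) : PLengthLE p k G := by
  refine CfsgLib.HallHigman.pLengthLE_mono (Nat.zero_le k) ?_
  unfold PLengthLE
  rw [show 2 * 0 + 1 = 1 from rfl, upperPSeries_one, pPrimeCore_eq_top_of_coprime h]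

theorem coprime_of_pLengthLE_zero (h : PLengthLE p 0 G) : (Nat.card G).Coprime p := by
  have := pPrimeCore_coprime (p := p) (G := G)
  rwa [CfsgLib.HallHigman.pPrimeCore_eq_top_of_pLengthLE_zero h, card_top] at this

/-- A finite family of normal subgroups with quotients of bounded `p`-length. -/
theorem pLengthLE_of_iInf_le {ι : Type*} (s : Finset ι) (N : ι → Subgroup G)
    (hn : ∀ i, (N i).Normal) {k : ℕ} (h : ∀ i ∈ s, PLengthLE p k (G ⧸ N i))
    (M : Subgroup G) [M.Normal] (hM : s.inf N ≤ M) : PLengthLE p k (G ⧸ M) := by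
  have key : ∃ hN : (s.inf N).Normal, PLengthLE p k (G ⧸ s.inf N) := by
    clear hM
    classical
    induction s using Finset.induction with
    | empty =>
      haveI : ((∅ : Finset ι).inf N).Normal := by rw [Finset.inf_empty]; infer_instance
      refine ⟨inferInstance, pLengthLE_zero_of_coprime ?_ k⟩
      rw [← index_eq_card, Finset.inf_empty, index_top]
      exact Nat.coprime_one_left _
    | @insert i s _ ih =>
      obtain ⟨hN, hP⟩ := ih fun j hj => h j (Finset.mem_insert_of_mem hj)
      haveI := hn i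
      haveI : ((insert i s).inf N).Normal := by rw [Finset.inf_insert]; infer_instance
      refine ⟨inferInstance, ?_⟩
      exact pLengthLE_of_surjective_ker (QuotientGroup.mk' (N i ⊓ s.inf N))
        (QuotientGroup.mk'_surjective _) (QuotientGroup.mk' ((insert i s).inf N))
        (QuotientGroup.mk'_surjective _)
        (by rw [QuotientGroup.ker_mk', QuotientGroup.ker_mk', Finset.inf_insert])
        (CfsgLib.HallHigman.pLengthLE_quotient_inf (N i) (s.inf N)
          (h i (Finset.mem_insert_self _ _)) hP)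
  obtain ⟨hN, hP⟩ := key
  exact pLengthLE_of_surjective_ker (QuotientGroup.mk' _) (QuotientGroup.mk'_surjective _)
    (QuotientGroup.mk' M) (QuotientGroup.mk'_surjective _)
    (by rw [QuotientGroup.ker_mk', QuotientGroup.ker_mk']; exact hM) hP

/-- `O_{p',p}` centralises a minimal normal `p`-subgroup. -/
theorem pPrimePCore_le_centralizer (V : Subgroup G) [V.Normal] (hV : IsPGroup p V)
    (hmin : ∀ M : Subgroup G, M.Normal → M ≤ V → M = ⊥ ∨ M = V) :
    pPrimePCore p G ≤ centralizer (V : Set G) := by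
  by_cases hVb : V = ⊥
  · rw [hVb]; intro x _ v hv
    rw [SetLike.mem_coe, mem_bot] at hv
    simp [hv]
  set U := pPrimePCore p G
  suffices hle : V ≤ centralizer (U : Set G) by
    exact le_centralizer_iff.1 hle
  refine inf_eq_left.1 ((hmin _ inferInstance inf_le_left).resolve_left ?_)
  intro hbot
  obtain ⟨P⟩ := (inferInstance : Nonempty (Sylow p G))
  have hR : IsPGroup p ((P : Subgroup G) ⊓ U : Subgroup G) := P.isPGroup'.to_le inf_le_left
  set X := V ⊔ ((P : Subgroup G) ⊓ U) with hX
  have hXp : IsPGroup p X := IsPGroup.to_sup_of_normal_left hV hR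
  haveI := hXp.isNilpotent
  have hne := CfsgLib.OddOrder.PuigSeries.inf_center_ne_bot (V.subgroupOf X) (fun h => hVb (by
    have h1 := subgroupOf_eq_bot.1 h
    rwa [disjoint_iff, inf_eq_left.2 (le_sup_left : V ≤ X)] at h1))
  obtain ⟨⟨z, hzX⟩, hz, hz1⟩ := (bot_or_exists_ne_one _).resolve_left hne
  refine hz1 (Subtype.ext (?_ : z = 1))
  refine mem_bot.1 (hbot ▸ (⟨hz.2, ?_⟩ : z ∈ V ⊓ centralizer (U : Set G)))
  intro u hu
  rw [SetLike.mem_coe] at hu
  rw [show U = pPrimeCore p G ⊔ ((P : Subgroup G) ⊓ U) from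
    (CfsgLib.Techniques.sylow_inf_pPrimePCore_sup P).symm] at hu
  have hd : pPrimeCore p G ⊔ ((P : Subgroup G) ⊓ U) ≤ centralizer {z} := by
    refine sup_le (fun o ho => ?_) (fun r hr => ?_)
    · refine mem_centralizer_singleton_iff.2 ?_
      have : V ≤ centralizer (pPrimeCore p G : Set G) := by
        rw [← commutator_eq_bot_iff_le_centralizer]
        exact le_bot_iff.1 ((commutator_le_inf _ _).trans_eq
          (inf_eq_bot_of_isPGroup_coprime hV pPrimeCore_coprime))
      exact this hz.2 o ho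
    · refine mem_centralizer_singleton_iff.2 ?_
      exact congrArg Subtype.val (mem_center_iff.1 hz.1 ⟨r, mem_sup_right hr⟩)
  exact mem_centralizer_singleton_iff.1 (hd hu)

end CfsgLib.Powell
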