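import Cfsg.Agent.Lib.Powell.Radical
import Cfsg.Agent.Lib.Blocks.BlockParts
import Cfsg.Agent.Lib.Blocks.WeakOrth
import Cfsg.Agent.Lib.Characters.Values
import Cfsg.Agent.Lib.KGV.Ito

/-!
The character identity finishing Powell's theorem.
-/

set_option autoImplicit false
set_option linter.unusedSectionVars false
set_option linter.style.haveILetI false

namespace CfsgLib.Powell

open Subgroup Cfsg CfsgLib.PCore
open scoped ComplexConjugate

universe u

variable {p : ℕ} [hp : Fact p.Prime] {G : Type u} [Group G] [Finite G]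

theorem Setup.center_eq_bot (hs : Setup p G) : center G = ⊥ := by
  haveI := hs.simple
  rcases (inferInstance : (center G).Normal).eq_bot_or_eq_top with h | h
  · exact h
  · exfalso
    refine hs.nonab ⟨⟨fun a b => ?_⟩⟩
    exact (mem_center_iff.1 (h ▸ mem_top a : a ∈ center G) b).symm

theorem Setup.centralizer_ne_top (hs : Setup p G) {y : G} (hy : y ≠ 1) :
    centralizer ({y} : Set G) ≠ ⊤ := by
  intro h
  refine hy (mem_bot.1 (hs.center_eq_bot ▸ ?_ : y ∈ (⊥ : Subgroup G)))
  rw [mem_center_iff]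
  intro g
  exact mem_centralizer_singleton_iff.1 (h ▸ mem_top g)

theorem mem_of_pow_eq {x : G} {n : ℕ} (hxo : orderOf x = p) (hn : ¬ p ∣ n) {H : Subgroup G}
    (h : x ^ n ∈ H) : x ∈ H :=
  mem_of_coprime_pows (m := p) (hp.out.coprime_iff_not_dvd.2 hn)
    (by rw [← hxo, pow_orderOf_eq_one]; exact one_mem _) h

theorem mk_conj_eq {L : Subgroup G} {x g : G} (hxL : x ∈ L) (hgL : g ∈ L)
    (h : g * x * g⁻¹ * x⁻¹ ∈ (pPrimeCore p L).map L.subtype) :
    QuotientGroup.mk' (pPrimeCore p L) (⟨g, hgL⟩ * ⟨x, hxL⟩ * (⟨g, hgL⟩ : L)⁻¹) =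
      QuotientGroup.mk' (pPrimeCore p L) ⟨x, hxL⟩ := by
  obtain ⟨o, ho, hoe⟩ := h
  have e : (⟨g, hgL⟩ * ⟨x, hxL⟩ * (⟨g, hgL⟩ : L)⁻¹) = o * ⟨x, hxL⟩ := by
    refine Subtype.ext ?_
    simp only [coe_subtype] at hoe
    simp only [Subgroup.coe_mul, InvMemClass.coe_inv]
    rw [hoe]; group
  rw [e, map_mul, show QuotientGroup.mk' (pPrimeCore p L) o = 1 from (QuotientGroup.eq_one_iff o).2 ho,
    one_mul]

/-- The values of principal block characters on products of conjugates of powers of `x`. -/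
theorem char_product (hs : Setup p G) {M : Ideal AlgInt} (hM : IsPModular p M) {x : G}
    (hxo : orderOf x = p)
    (hiso : ∀ K : Subgroup G, K ≠ ⊤ → x ∈ K → ∀ g ∈ K,
      g * x * g⁻¹ * x⁻¹ ∈ (pPrimeCore p K).map K.subtype)
    {i k : ℕ} (hik : ¬ p ∣ i + k) (g : G) {χ : IrrCharacter G} (hχ : χ ∈ principalBlock M G) :
    (χ : G → ℂ) (g * x ^ i * g⁻¹ * x ^ k) = (χ : G → ℂ) (x ^ (i + k)) := by
  letI := Fintype.ofFinite G
  set L := closure ({x, x, g} : Set G) with hL
  have hLt : L ≠ ⊤ := hs.three x x g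
  have hxL : x ∈ L := subset_closure (by simp)
  have hgL : g ∈ L := subset_closure (by simp)
  set X : L := ⟨x, hxL⟩ with hX
  set Z : L := ⟨g, hgL⟩ * X ^ i * ⟨g, hgL⟩⁻¹ * X ^ k with hZ
  set n := Nat.card (pPrimeCore p L) with hn
  have hnp : ¬ p ∣ n := not_dvd_card_pPrimeCore
  set f := QuotientGroup.mk' (pPrimeCore p L) with hf
  have hfZ : f Z = f (X ^ (i + k)) := by
    rw [hZ, map_mul, ← conj_pow, map_pow, mk_conj_eq hxL hgL (hiso L hLt hxL g hgL), map_pow,
      map_pow, pow_add]
  have hXp : X ^ p = 1 := Subtype.ext (by simp [hX, ← hxo, pow_orderOf_eq_one])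
  have hZn : ∃ j : ℕ, (Z ^ n) ^ p ^ j = 1 := by
    refine ⟨1, ?_⟩
    have h1 : Z ^ p ∈ pPrimeCore p L := by
      rw [← QuotientGroup.eq_one_iff, ← QuotientGroup.mk'_apply, map_pow, ← hf, hfZ, ← map_pow,
        ← pow_mul, mul_comm, pow_mul, hXp, one_pow, map_one]
    have h2 := congrArg Subtype.val (pow_card_eq_one' (x := (⟨_, h1⟩ : pPrimeCore p L)))
    rw [SubgroupClass.coe_pow, OneMemClass.coe_one] at h2
    rw [pow_one, ← pow_mul, mul_comm, pow_mul]
    exact h2
  have hXn : ∃ j : ℕ, ((X ^ (i + k)) ^ n) ^ p ^ j = 1 :=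
    ⟨1, by rw [pow_one, ← pow_mul, ← pow_mul, show (i + k) * (n * p) = p * ((i + k) * n) by ring,
      pow_mul, hXp, one_pow]⟩
  obtain ⟨q, hq, hqe⟩ := exists_conj_of_congr (Q := pPrimeCore p L) pPrimeCore_coprime hXn hZn (by
    rw [← QuotientGroup.eq]
    show f ((X ^ (i + k)) ^ n) = f (Z ^ n)
    rw [map_pow f _ n, map_pow f _ n, hfZ])
  set T := X ^ (i + k) with hT
  have hcommT : Commute T (q * Z * q⁻¹) := by
    have h1 : Commute (T ^ n) (q * Z * q⁻¹) := by
      rw [← hqe, ← conj_pow]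
      exact (Commute.refl _).pow_left n
    have h2 : T ∈ centralizer ({q * Z * q⁻¹} : Set L) := by
      refine mem_of_coprime_pows (m := p) (hp.out.coprime_iff_not_dvd.2 hnp) ?_
        (mem_centralizer_singleton_iff.2 h1.eq)
      rw [hT, ← pow_mul, mul_comm, pow_mul, hXp, one_pow]
      exact one_mem _
    exact mem_centralizer_singleton_iff.1 h2
  set W := T⁻¹ * (q * Z * q⁻¹) with hW
  have hWn : W ^ n = 1 := by
    rw [hW, (Commute.inv_left hcommT).mul_pow, inv_pow, conj_pow, hqe, inv_mul_cancel]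
  set t := x ^ (i + k) with ht
  set w : G := ((W : L) : G) with hw
  have htT : (T : G) = t := by simp [hT, hX, ht]
  have hto : orderOf t = p := by
    rw [ht, orderOf_pow, hxo, (hp.out.coprime_iff_not_dvd.2 hik).gcd_eq_one, Nat.div_one]
  have hwt : Commute t w := by
    rw [← htT, hw]
    exact ((Commute.refl T).inv_right.mul_right hcommT).map L.subtype
  have hwn : w ^ n = 1 := by rw [hw, ← SubgroupClass.coe_pow, hWn, OneMemClass.coe_one]
  have hxw : Commute x w :=
    (mem_centralizer_singleton_iff.1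
      (mem_of_pow_eq hxo hik (H := centralizer {w}) (mem_centralizer_singleton_iff.2 hwt.eq)) :)
  set C := centralizer ({t} : Set G) with hC
  have hwC : w ∈ C := mem_centralizer_singleton_iff.2 hwt.eq.symm
  have hCt : C ≠ ⊤ := hs.centralizer_ne_top (fun h => by
    rw [h, orderOf_one] at hto; exact hp.out.one_lt.ne hto)
  have hCpsol := hs.psol C hCt
  -- `w` lies in the core of the centraliser
  have hwcore : (⟨w, hwC⟩ : C) ∈ pPrimeCore p C := by
    set φ := QuotientGroup.mk' (pPrimeCore p C) with hφ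
    have hcent : φ ⟨w, hwC⟩ ∈ centralizer (pCore p (C ⧸ pPrimeCore p C) : Set (C ⧸ pPrimeCore p C)) := by
      intro ub hub
      obtain ⟨u, rfl⟩ := QuotientGroup.mk'_surjective (pPrimeCore p C) ub
      obtain ⟨e, he⟩ := pCore_isPGroup (p := p) (G := C ⧸ pPrimeCore p C) ⟨_, hub⟩
      have he' : φ (u ^ p ^ e) = 1 := by simpa [hφ] using congrArg Subtype.val he
      set m := Nat.card (pPrimeCore p C) with hm
      set u0 := u ^ m with hu0
      have hu0p : u0 ^ p ^ e = 1 := by
        have h1 : u ^ p ^ e ∈ pPrimeCore p C := (QuotientGroup.eq_one_iff _).1 he'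
        have h2 := congrArg Subtype.val (pow_card_eq_one' (x := (⟨_, h1⟩ : pPrimeCore p C)))
        rw [SubgroupClass.coe_pow, OneMemClass.coe_one] at h2
        rw [hu0, ← pow_mul, mul_comm, pow_mul]
        exact h2
      have hkey : Commute (φ u0) (φ ⟨w, hwC⟩) := by
        set L' := closure ({x * w, (u0 : G), g} : Set G) with hL'
        have hL't : L' ≠ ⊤ := hs.three _ _ _
        have hxwL : x * w ∈ L' := subset_closure (by simp)
        have huL : (u0 : G) ∈ L' := subset_closure (by simp)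
        have hgL' : g ∈ L' := subset_closure (by simp)
        have hxL' : x ∈ L' := by
          refine mem_of_pow_eq hxo hnp ?_
          have := pow_mem hxwL n
          rwa [hxw.mul_pow, hwn, mul_one] at this
        have hwL' : w ∈ L' := by
          have := mul_mem (inv_mem hxL') hxwL
          rwa [inv_mul_cancel_left] at this
        have hLL' : L ≤ L' := (closure_le _).2 (by
          intro z hz
          rcases hz with e | e | e <;> rw [e] <;> first | exact hxL' | exact hgL')
        -- `w` dies modulo the core of `L'`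
        have hwO : w ∈ (pPrimeCore p L').map L'.subtype := by
          set ψ := (QuotientGroup.mk' (pPrimeCore p L')).comp (inclusion hLL') with hψ
          have hconj : ∀ z : L, ψ z * ψ X * (ψ z)⁻¹ = ψ X := fun z => by
            have := mk_conj_eq (p := p) hxL' (hLL' z.2) (hiso L' hL't hxL' _ (hLL' z.2))
            rw [map_mul, map_mul, map_inv] at this
            exact this
          have hψZ : ψ Z = ψ X ^ (i + k) := by
            rw [hZ, map_mul, ← conj_pow, map_pow, map_pow, map_mul, map_mul, map_inv, hconj, pow_add]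
          have hψW : ψ W = 1 := by
            rw [hW, map_mul, map_mul, map_mul, map_inv, map_inv, hψZ, hT, map_pow, ← conj_pow,
              hconj, inv_mul_cancel]
          exact ⟨inclusion hLL' W, (QuotientGroup.eq_one_iff _).1 hψW, rfl⟩
        set c : C := u0 * ⟨w, hwC⟩ * u0⁻¹ * (⟨w, hwC⟩ : C)⁻¹ with hc
        have hcp : ¬ p ∣ orderOf c := by
          rw [← Subgroup.orderOf_coe]
          refine regular_of_mem_core (K := L') ?_
          obtain ⟨o, ho, hoe⟩ := hwO
          refine ⟨⟨(u0 : G), huL⟩ * o * ⟨(u0 : G), huL⟩⁻¹ * o⁻¹,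
            mul_mem ((inferInstance : (pPrimeCore p L').Normal).conj_mem o ho _) (inv_mem ho), ?_⟩
          simp only [coe_subtype] at hoe
          simp [hc, hoe]
        have hcU : φ c ∈ pCore p (C ⧸ pPrimeCore p C) := by
          have hu : φ u0 ∈ pCore p (C ⧸ pPrimeCore p C) := by
            rw [hu0, map_pow]; exact pow_mem hub m
          have e1 : φ c = φ u0 * (φ ⟨w, hwC⟩ * (φ u0)⁻¹ * (φ ⟨w, hwC⟩)⁻¹) := by
            simp only [hc, map_mul, map_inv]; group
          rw [e1]
          exact mul_mem hu ((pCore_normal p _).conj_mem _ (inv_mem hu) _)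
        obtain ⟨j, hj⟩ := pCore_isPGroup (p := p) (G := C ⧸ pPrimeCore p C) ⟨_, hcU⟩
        have hj' : φ c ^ p ^ j = 1 := by simpa using congrArg Subtype.val hj
        have h1 : φ c = 1 := by
          rw [← pow_one (φ c)]
          have hg := Nat.Coprime.pow_left j (hp.out.coprime_iff_not_dvd.2 hcp)
          have h2 := mem_of_coprime_pows (H := (⊥ : Subgroup (C ⧸ pPrimeCore p C))) hg
            (by rw [hj']; exact one_mem _)
            (by rw [← map_pow, pow_orderOf_eq_one, map_one]; exact one_mem _)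
          rw [mem_bot.1 h2, pow_one]
        simp only [hc, map_mul, map_inv] at h1
        exact mul_inv_eq_iff_eq_mul.1 (mul_inv_eq_one.1 h1)
      have h3 : φ u ∈ centralizer ({φ ⟨w, hwC⟩} : Set (C ⧸ pPrimeCore p C)) := by
        refine mem_of_coprime_pows (m := p ^ e) (n := m)
          (Nat.Coprime.pow_left e pPrimeCore_coprime.symm) ?_ ?_
        · rw [← map_pow, he']; exact one_mem _
        · rw [← map_pow]
          exact mem_centralizer_singleton_iff.2 hkey.eq
      exact mem_centralizer_singleton_iff.1 h3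
    have h1 := centralizer_pCore_le (isPSolvable_quotient hCpsol _)
      pPrimeCore_quotient_pPrimeCore hcent
    obtain ⟨j, hj⟩ := pCore_isPGroup (p := p) (G := C ⧸ pPrimeCore p C) ⟨_, h1⟩
    have hj' : φ ⟨w, hwC⟩ ^ p ^ j = 1 := by simpa using congrArg Subtype.val hj
    refine mem_of_coprime_pows (Nat.Coprime.pow_left j (hp.out.coprime_iff_not_dvd.2 hnp))
      ((QuotientGroup.eq_one_iff _).1 (by rw [← QuotientGroup.mk'_apply, map_pow]; exact hj')) ?_
    have h0 : (⟨w, hwC⟩ : C) ^ n = 1 := Subtype.ext (by simp [hwn])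
    rw [h0]; exact one_mem _
  have hval := CfsgLib.Blocks.principal_apply_mul hM (u := t) ⟨1, by rw [hto, pow_one]⟩
    (N := pPrimeCore p C) not_dvd_card_pPrimeCore hwcore hχ
  rw [← hval]
  refine CfsgLib.Characters.classFunction_eq_of_isConj (CfsgLib.Characters.irr_isClassFunction χ)
    (isConj_iff.2 ⟨(q : G), ?_⟩)
  have e : ((q * Z * q⁻¹ : L) : G) = (T : G) * (W : G) := by
    rw [← Subgroup.coe_mul, hW, mul_inv_cancel_left]
  rw [htT, ← hw] at e
  rw [← e]
  simp [hZ, hX]

open scoped Classical in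
theorem char_mul_eq {x : G} {i k : ℕ} {χ : IrrCharacter G}
    (h : ∀ g : G, (χ : G → ℂ) (g * x ^ i * g⁻¹ * x ^ k) = (χ : G → ℂ) (x ^ (i + k))) :
    (χ : G → ℂ) (x ^ i) * (χ : G → ℂ) (x ^ k) = (χ : G → ℂ) 1 * (χ : G → ℂ) (x ^ (i + k)) := by
  cases nonempty_fintype G
  have hsum := CfsgLib.Blocks.sum_isConj_mul χ (x ^ i) (x ^ k)
  rw [← Finset.sum_filter, Finset.sum_congr rfl
    (g := fun _ => (χ : G → ℂ) (x ^ (i + k))) (fun z hz => by
      obtain ⟨c, rfl⟩ := isConj_iff.1 (Finset.mem_filter.1 hz).2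
      exact h c),
    Finset.sum_const, nsmul_eq_mul, centralChar] at hsum
  have hcard : ((Finset.univ.filter fun z : G => IsConj (x ^ i) z).card : ℂ) =
      ((centralizer ({x ^ i} : Set G)).index : ℂ) := by
    rw [← CfsgLib.Blocks.natCard_isConj (x ^ i), Nat.card_eq_fintype_card, Fintype.card_subtype]
  rw [hcard] at hsum
  have h1 := CfsgLib.Characters.irr_one_ne_zero χ
  have hi : ((centralizer ({x ^ i} : Set G)).index : ℂ) ≠ 0 :=
    Nat.cast_ne_zero.mpr index_ne_zero_of_finite
  field_simp at hsum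
  linear_combination -hsum

theorem setup_false (hs : Setup p G) (hp2 : p ≠ 2) (hdvd : p ∣ Nat.card G) : False := by
  classical
  obtain ⟨x, hxo, hiso⟩ := exists_isolated hs hdvd
  have hx1 : x ≠ 1 := fun h => by
    rw [h, orderOf_one] at hxo; exact hp.out.one_lt.ne hxo
  obtain ⟨M, hM⟩ := CfsgLib.KGV.exists_isPModular p hp.out
  cases nonempty_fintype G
  have horth := CfsgLib.Blocks.weak_orth hM (CfsgLib.Blocks.isPBlock_principalBlock (G := G) M)
    (x := (1 : G)) (y := x) (by rw [orderOf_one]; exact hp.out.not_dvd_one) (by rw [hxo])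
  have hterm : ∀ χ : IrrCharacter G, χ ∈ principalBlock M G →
      ∃ r : ℕ, (χ : G → ℂ) 1 * conj ((χ : G → ℂ) x) = r := by
    intro χ hχ
    by_cases hzero : (χ : G → ℂ) x = 0
    · exact ⟨0, by simp [hzero]⟩
    have h3 : 3 ≤ p := by
      have := hp.out.two_le
      omega
    have hd2 : ¬ p ∣ 1 + 1 := fun h => by
      have := Nat.le_of_dvd (by norm_num) h
      omega
    have hd1 : ¬ p ∣ 2 + (p - 1) := fun h => by
      rw [show 2 + (p - 1) = p + 1 by omega, Nat.dvd_add_right dvd_rfl] at h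
      exact hp.out.not_dvd_one h
    have e1 := char_mul_eq fun g => char_product hs hM hxo hiso (i := 1) (k := 1) hd2 g hχ
    have e2 := char_mul_eq fun g => char_product hs hM hxo hiso (i := 2) (k := p - 1) hd1 g hχ
    have hinv : x ^ (p - 1) = x⁻¹ := by
      refine eq_inv_of_mul_eq_one_left ?_
      rw [← pow_succ, Nat.sub_add_cancel hp.out.pos, ← hxo, pow_orderOf_eq_one]
    have hpx : x ^ (2 + (p - 1)) = x := by
      rw [pow_add, hinv, pow_two, mul_inv_cancel_right]
    rw [hpx, hinv, CfsgLib.Characters.irr_apply_inv] at e2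
    rw [show (1 + 1 : ℕ) = 2 from rfl, pow_one] at e1
    have hsq : (χ : G → ℂ) x * conj ((χ : G → ℂ) x) = ((χ : G → ℂ) 1) ^ 2 := by
      apply mul_left_cancel₀ hzero
      linear_combination (conj ((χ : G → ℂ) x)) * e1 + (χ : G → ℂ) 1 * e2
    obtain ⟨χf, hirr⟩ := χ
    obtain ⟨n, ρ, hρ, rfl⟩ := hirr
    simp only [Representation.char_one] at hsq ⊢
    have hnorm : ‖ρ.character x‖ = (Module.finrank ℂ (Fin n → ℂ) : ℝ) := by
      have h2 := congrArg (fun z : ℂ => ‖z‖) hsq
      simp only [norm_mul, RCLike.norm_conj, norm_pow, Complex.norm_natCast, ← pow_two] at h2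
      exact (pow_left_inj₀ (norm_nonneg _) (Nat.cast_nonneg _) two_ne_zero).mp h2
    obtain ⟨ω, hω⟩ := (CfsgLib.Characters.norm_char_eq_iff_scalar ρ x).mp hnorm
    have hker : ∀ g : G, g * x * g⁻¹ * x⁻¹ ∈ MonoidHom.ker ρ := by
      intro g
      rw [MonoidHom.mem_ker]
      have hc : ρ g * ρ x = ρ x * ρ g := by
        rw [hω]; ext v; simp
      calc ρ (g * x * g⁻¹ * x⁻¹) = ρ g * ρ x * ρ g⁻¹ * ρ x⁻¹ := by rw [map_mul, map_mul, map_mul]
        _ = ρ x * (ρ g * ρ g⁻¹) * ρ x⁻¹ := by rw [hc, mul_assoc (ρ x)]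
        _ = 1 := by rw [← map_mul, mul_inv_cancel, map_one, mul_one, ← map_mul, mul_inv_cancel, map_one]
    have hxker : ρ x = 1 := by
      haveI := hs.simple
      rcases (inferInstance : (MonoidHom.ker ρ).Normal).eq_bot_or_eq_top with h | h
      · exfalso
        refine hx1 (mem_bot.1 (hs.center_eq_bot ▸ ?_ : x ∈ (⊥ : Subgroup G)))
        rw [mem_center_iff]
        intro g
        have := hker g
        rw [h, mem_bot] at this
        exact mul_inv_eq_iff_eq_mul.1 (mul_inv_eq_one.1 this)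
      · exact MonoidHom.mem_ker.1 (h ▸ mem_top x)
    refine ⟨n * n, ?_⟩
    have hrank : Module.finrank ℂ (Fin n → ℂ) = n := by simp
    have : ρ.character x = (Module.finrank ℂ (Fin n → ℂ) : ℂ) :=
      (CfsgLib.Characters.char_eq_degree_iff ρ x).mpr hxker
    rw [this, hrank, Complex.conj_natCast, Nat.cast_mul]
  choose r hr using hterm
  rw [← Finset.sum_attach, Finset.sum_congr rfl (fun χ _ => hr χ.1 (Finset.mem_filter.mp χ.2).2),
    ← Nat.cast_sum, Nat.cast_eq_zero, Finset.sum_eq_zero_iff] at horth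
  have htriv : CfsgLib.Characters.principalIrr G ∈ principalBlock M G :=
    CfsgLib.Blocks.sameBlock_refl hM _
  have h0 := horth ⟨CfsgLib.Characters.principalIrr G,
    Finset.mem_filter.mpr ⟨Finset.mem_univ _, htriv⟩⟩ (Finset.mem_attach _ _)
  have h1 := hr (CfsgLib.Characters.principalIrr G) htriv
  rw [h0] at h1
  simp at h1

/-- Powell's theorem. -/
theorem powell [IsSimpleGroup G] (hna : ¬ IsMulCommutative G) (hp2 : p ≠ 2) (hdvd : p ∣ Nat.card G)
    (hprop : ∀ H : Subgroup G, H ≠ ⊤ → IsPSolvable p H) :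
    ∃ x y z : G, closure ({x, y, z} : Set G) = ⊤ := by
  by_contra h
  push Not at h
  exact setup_false ⟨inferInstance, hna, hprop, h⟩ hp2 hdvd

end CfsgLib.Powell
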