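import Cfsg.Agent.Lib.Powell.Pair

/-!
The step of the induction which passes the normal `p'`-subgroup, and the two-generation theorem
for the `p`-length of a `p`-soluble group.
-/

set_option autoImplicit false
set_option linter.unusedSectionVars false
set_option linter.style.haveILetI false

namespace CfsgLib.Powell

open Subgroup Cfsg CfsgLib.PCore
open scoped Pointwise

universe u

variable {p : ℕ} [hp : Fact p.Prime]

theorem isPGroup_zpowers {G : Type*} [Group G] {s : G} (hs : ∃ i : ℕ, s ^ p ^ i = 1) :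
    IsPGroup p (zpowers s) := by
  obtain ⟨i, hi⟩ := hs
  rintro ⟨x, hx⟩
  obtain ⟨j, rfl⟩ := mem_zpowers_iff.1 hx
  refine ⟨i, Subtype.ext ?_⟩
  simp only [SubgroupClass.coe_pow, OneMemClass.coe_one]
  rw [← zpow_natCast, ← zpow_mul, mul_comm, zpow_mul, zpow_natCast, hi, one_zpow]

theorem isSolvable_zpowers {G : Type*} [Group G] (x : G) : Group.IsSolvable (zpowers x) := by
  refine Group.isSolvable_of_comm fun a b => Subtype.ext ?_
  obtain ⟨i, hi⟩ := mem_zpowers_iff.1 a.2
  obtain ⟨j, hj⟩ := mem_zpowers_iff.1 b.2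
  simp only [Subgroup.coe_mul, ← hi, ← hj, ← zpow_add, add_comm]

/-- `p`-elements congruent modulo a normal `p'`-subgroup are conjugate under it. -/
theorem exists_conj_of_congr {G : Type*} [Group G] [Finite G] {Q : Subgroup G} [Q.Normal]
    (hQ : (Nat.card Q).Coprime p) {s s' : G} (hs : ∃ i : ℕ, s ^ p ^ i = 1)
    (hs' : ∃ i : ℕ, s' ^ p ^ i = 1) (h : s⁻¹ * s' ∈ Q) : ∃ x ∈ Q, x * s' * x⁻¹ = s := by
  have hA := isPGroup_zpowers hs
  have hA' := isPGroup_zpowers hs'
  have hcop : ∀ {B : Subgroup G}, IsPGroup p B → (Nat.card B).Coprime (Nat.card Q) := by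
    intro B hB
    obtain ⟨e, he⟩ := IsPGroup.iff_card.1 hB
    rw [he]; exact Nat.Coprime.pow_left e hQ.symm
  have hle : zpowers s' ≤ zpowers s ⊔ Q := by
    rw [zpowers_le]
    have := mul_mem_sup (mem_zpowers s) h
    rwa [mul_inv_cancel_left] at this
  obtain ⟨x, hx, hc⟩ := CfsgLib.Coprime.exists_conj_le_of_coprime (zpowers s) Q
    Subgroup.le_normalizer_of_normal (hcop hA) (zpowers s') hle (hcop hA')
    (Or.inl (isSolvable_zpowers s'))
  refine ⟨x, hx, ?_⟩
  have h1 : x * s' * x⁻¹ ∈ zpowers s := hc ⟨s', mem_zpowers s', by simp⟩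
  have h2 : s⁻¹ * (x * s' * x⁻¹) ∈ zpowers s ⊓ Q := by
    refine mem_inf.2 ⟨mul_mem (inv_mem (mem_zpowers s)) h1, ?_⟩
    have e : s⁻¹ * (x * s' * x⁻¹) = (s⁻¹ * x * s) * (s⁻¹ * s') * x⁻¹ := by group
    rw [e]
    refine mul_mem (mul_mem ?_ h) (inv_mem hx)
    simpa using (inferInstance : Q.Normal).conj_mem x hx s⁻¹
  rw [inf_eq_bot_of_isPGroup_coprime hA hQ, mem_bot, inv_mul_eq_one] at h2
  exact h2.symm

theorem mem_of_coprime_pows {G : Type*} [Group G] {H : Subgroup G} {g : G} {m n : ℕ}
    (hmn : m.Coprime n) (hm : g ^ m ∈ H) (hn : g ^ n ∈ H) : g ∈ H := by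
  have hb := Nat.gcd_eq_gcd_ab m n
  rw [hmn.gcd_eq_one] at hb
  have : g = (g ^ m) ^ Nat.gcdA m n * (g ^ n) ^ Nat.gcdB m n := by
    rw [← zpow_natCast g m, ← zpow_natCast g n, ← zpow_mul, ← zpow_mul, ← zpow_add, ← hb]
    simp
  rw [this]
  exact mul_mem (zpow_mem hm _) (zpow_mem hn _)

section

variable {X : Type u} [Group X] [Finite X]

/-- For `g ∈ Q ⊔ (O_{p',p} ⊓ C)` a power of `g` is congruent to a `p`-element of `C`. -/
theorem exists_pElement_congr {C : Subgroup X} {g : X}
    (hg : g ∈ pPrimeCore p X ⊔ (pPrimePCore p X ⊓ C)) :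
    ∃ s ∈ C, (∃ i : ℕ, s ^ p ^ i = 1) ∧ s⁻¹ * g ^ Nat.card (pPrimeCore p X) ∈ pPrimeCore p X := by
  set Q := pPrimeCore p X with hQ
  obtain ⟨q, hq, c, hc, rfl⟩ := mem_sup_of_normal_left.1 hg
  obtain ⟨i, hi⟩ := exists_pow_mem_core hc.1
  refine ⟨c ^ Nat.card Q, pow_mem hc.2 _, ⟨i, ?_⟩, ?_⟩
  · have := congrArg Subtype.val (pow_card_eq_one' (x := (⟨_, hi⟩ : Q)))
    rw [SubgroupClass.coe_pow, OneMemClass.coe_one] at this
    rw [← pow_mul, mul_comm, pow_mul]
    exact this
  · rw [← QuotientGroup.eq]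
    simp only [QuotientGroup.mk_pow, QuotientGroup.mk_mul, (QuotientGroup.eq_one_iff q).2 hq,
      one_mul]

theorem mem_of_pow_core {D : Subgroup X} (hQD : pPrimeCore p X ≤ D) {g : X}
    (hg : g ∈ pPrimePCore p X) (h : g ^ Nat.card (pPrimeCore p X) ∈ D) : g ∈ D := by
  obtain ⟨i, hi⟩ := exists_pow_mem_core hg
  exact mem_of_coprime_pows (Nat.Coprime.pow_left i pPrimeCore_coprime.symm) (hQD hi) h

theorem sup_inf_le_pPrimePCore (C : Subgroup X) :
    pPrimeCore p X ⊔ (pPrimePCore p X ⊓ C) ≤ pPrimePCore p X :=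
  sup_le pPrimeCore_le_pPrimePCore inf_le_left

/-- If the elements of `O_{p',p}` have, up to `O_{p'}`, centralisers of some Sylow `q`-subgroup of
`O_{p'}` for each `q`, they lie in `O_{p'}`. -/
theorem sInf_le_pPrimeCore (hX : IsPSolvable p X) (h0 : pCore p X = ⊥)
    (R : ∀ q : (Nat.card (pPrimeCore p X)).primeFactors, Subgroup X)
    (hR : ∀ q, R q ≤ pPrimeCore p X)
    (hcard : ∀ q, Nat.card (R q) = (q : ℕ) ^ (Nat.card (pPrimeCore p X)).factorization q)
    {g : X} (hgU : g ∈ pPrimePCore p X)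
    (hg : ∀ q, g ∈ pPrimeCore p X ⊔ (pPrimePCore p X ⊓ centralizer (R q : Set X))) :
    g ∈ pPrimeCore p X := by
  refine mem_of_pow_core le_rfl hgU ?_
  by_cases hempty : (Nat.card (pPrimeCore p X)).primeFactors = ∅
  · have hQb : pPrimeCore p X = ⊥ := by
      rw [Nat.primeFactors_eq_empty] at hempty
      exact eq_bot_of_card_eq _ (hempty.resolve_left Nat.card_pos.ne')
    refine CfsgLib.DualHallHigman.centralizer_pPrimeCore_le hX h0 fun x hx => ?_
    rw [hQb, SetLike.mem_coe, mem_bot] at hx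
    simp [hx]
  obtain ⟨q0, hq0⟩ := Finset.nonempty_iff_ne_empty.2 hempty
  obtain ⟨s, -, hsp, hsg⟩ := exists_pElement_congr (hg ⟨q0, hq0⟩)
  have hdvd : Nat.card (pPrimeCore p X) ∣ Nat.card ↥((pPrimeCore p X) ⊓ centralizer ({s} : Set X)) := by
    rw [← Nat.factorization_le_iff_dvd Nat.card_pos.ne' Nat.card_pos.ne']
    intro q
    by_cases hq : q ∈ (Nat.card (pPrimeCore p X)).primeFactors
    swap
    · have hq' : (Nat.card (pPrimeCore p X)).factorization q = 0 := by
        rw [← Finsupp.notMem_support_iff]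
        rwa [Nat.support_factorization]
      rw [hq']; exact Nat.zero_le _
    obtain ⟨s', hs'C, hs'p, hs'g⟩ := exists_pElement_congr (hg ⟨q, hq⟩)
    have hcongr : s⁻¹ * s' ∈ (pPrimeCore p X) := by
      have := mul_mem hsg (inv_mem hs'g)
      simpa [mul_assoc] using this
    obtain ⟨x, hx, he⟩ := exists_conj_of_congr pPrimeCore_coprime hsp hs'p hcongr
    have hle : MulAut.conj x • R ⟨q, hq⟩ ≤ (pPrimeCore p X) ⊓ centralizer ({s} : Set X) := by
      refine CfsgLib.Coprime.conj_smul_le.2 fun r hr => mem_inf.2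
        ⟨mul_mem (mul_mem hx (hR _ hr)) (inv_mem hx), mem_centralizer_singleton_iff.2 ?_⟩
      have h1 : r * s' = s' * r := hs'C r hr
      rw [← he]
      calc x * r * x⁻¹ * (x * s' * x⁻¹) = x * (r * s') * x⁻¹ := by group
        _ = x * (s' * r) * x⁻¹ := by rw [h1]
        _ = x * s' * x⁻¹ * (x * r * x⁻¹) := by group
    have hd := card_dvd_of_le hle
    rw [CfsgLib.Coprime.card_conj_smul, hcard] at hd
    exact (Nat.Prime.pow_dvd_iff_le_factorization (Nat.prime_of_mem_primeFactors hq)
      Nat.card_pos.ne').1 hd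
  have heq : (pPrimeCore p X) ⊓ centralizer ({s} : Set X) = (pPrimeCore p X) :=
    eq_of_le_of_card_ge inf_le_left (Nat.le_of_dvd Nat.card_pos hdvd)
  have hsQ : s ∈ (pPrimeCore p X) := CfsgLib.DualHallHigman.centralizer_pPrimeCore_le hX h0 fun x hx => by
    rw [← heq] at hx
    exact mem_centralizer_singleton_iff.1 hx.2
  have := mul_mem hsQ hsg
  rwa [mul_inv_cancel_left] at this

/-- `O_p` of a supplement to `O_{p'}` lands in `O_{p',p}`. -/
theorem pCore_supplement_le {Y : Subgroup X} (hY : pPrimeCore p X ⊔ Y = ⊤) {y : Y}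
    (hy : y ∈ pCore p Y) : (y : X) ∈ pPrimePCore p X := by
  rw [pPrimePCore, mem_comap]
  refine map_pCore_le ((QuotientGroup.mk' (pPrimeCore p X)).comp Y.subtype) (fun z => ?_)
    ⟨y, hy, rfl⟩
  obtain ⟨g, rfl⟩ := QuotientGroup.mk'_surjective _ z
  obtain ⟨q, hq, w, hw, rfl⟩ := mem_sup_of_normal_left.1 (hY ▸ mem_top g)
  refine ⟨⟨w, hw⟩, ?_⟩
  rw [map_mul, QuotientGroup.mk'_apply, (QuotientGroup.eq_one_iff q).2 hq, one_mul]
  rfl

theorem pCore_centralizes {Y R : Subgroup X} (hRY : R ≤ Y) (hn : Y ≤ normalizer (R : Set X))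
    (hR : (Nat.card R).Coprime p) {y : Y} (hy : y ∈ pCore p Y) :
    (y : X) ∈ centralizer (R : Set X) := by
  haveI : (R.subgroupOf Y).Normal := normal_subgroupOf_of_le_normalizer hn
  have hle : R.subgroupOf Y ≤ pPrimeCore p Y :=
    le_pPrimeCore inferInstance (by rw [CfsgLib.Coprime.card_subgroupOf hRY]; exact hR)
  intro r hr
  exact congrArg Subtype.val (pCore_le_centralizer_pPrimeCore hy ⟨r, hRY hr⟩ (hle hr))

/-- The criterion for supplements. -/
theorem coreLen_supplement {k : ℕ} {D Y : Subgroup X} [D.Normal] (hQD : pPrimeCore p X ≤ D)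
    (hY : pPrimeCore p X ⊔ Y = ⊤) (hD : ∀ y : Y, y ∈ pCore p Y → (y : X) ∈ D)
    (h : ¬ PLengthLE p k (X ⧸ D)) : ¬ PLengthLE p k (Y ⧸ pCore p Y) := by
  intro hl
  refine h (pLengthLE_of_surjective_ker (QuotientGroup.mk' _) (QuotientGroup.mk'_surjective _)
    ((QuotientGroup.mk' D).comp Y.subtype) (fun z => ?_) ?_ hl)
  · obtain ⟨g, rfl⟩ := QuotientGroup.mk'_surjective _ z
    obtain ⟨q, hq, w, hw, rfl⟩ := mem_sup_of_normal_left.1 (hY ▸ mem_top g)
    refine ⟨⟨w, hw⟩, ?_⟩
    rw [map_mul, QuotientGroup.mk'_apply, QuotientGroup.mk'_apply,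
      (QuotientGroup.eq_one_iff q).2 (hQD hq), one_mul]
    rfl
  · intro y hy
    rw [QuotientGroup.ker_mk'] at hy
    rw [MonoidHom.mem_ker, MonoidHom.comp_apply]
    exact (QuotientGroup.eq_one_iff _).2 (hD y hy)

theorem exists_congr_mem {N : Subgroup X} (h : pPrimeCore p X ⊔ N = ⊤) (a : X) :
    ∃ a' ∈ N, a * a'⁻¹ ∈ pPrimeCore p X := by
  obtain ⟨q, hq, n, hn, rfl⟩ := mem_sup_of_normal_left.1 (h ▸ mem_top a)
  exact ⟨n, hn, by simpa using hq⟩

theorem exists_pair_mem {N : Subgroup X} (h : pPrimeCore p X ⊔ N = ⊤) {a b : X}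
    (hgen : pPrimeCore p X ⊔ closure ({a, b} : Set X) = ⊤) :
    ∃ a' b' : X, closure ({a', b'} : Set X) ≤ N ∧
      pPrimeCore p X ⊔ closure ({a', b'} : Set X) = ⊤ := by
  obtain ⟨a', ha', hqa⟩ := exists_congr_mem h a
  obtain ⟨b', hb', hqb⟩ := exists_congr_mem h b
  refine ⟨a', b', (closure_le _).2 ?_, top_le_iff.1 (hgen.ge.trans (sup_le le_sup_left ((closure_le _).2 ?_)))⟩
  · intro x hx
    rcases hx with h | h <;> rw [h]
    exacts [ha', hb']
  · intro x hx
    rcases hx with h | h <;> rw [h]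
    · have h1 : a' ∈ closure ({a', b'} : Set X) := subset_closure (Set.mem_insert a' {b'})
      have h2 := mul_mem_sup hqa h1
      rw [inv_mul_cancel_right] at h2
      exact h2
    · have h1 : b' ∈ closure ({a', b'} : Set X) :=
        subset_closure (Set.mem_insert_of_mem a' (Set.mem_singleton b'))
      have h2 := mul_mem_sup hqb h1
      rw [inv_mul_cancel_right] at h2
      exact h2

end

theorem sup_inf_normal {X : Type*} [Group X] {Q U C N : Subgroup X} [Q.Normal] [U.Normal]
    (hQN : Q ⊔ N = ⊤) (hC : N ≤ normalizer (C : Set X)) : (Q ⊔ (U ⊓ C)).Normal := by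
  rw [← normalizer_eq_top_iff, ← top_le_iff, ← hQN]
  refine sup_le (le_sup_left.trans Subgroup.le_normalizer) (le_normalizer_iff.2 fun n hn x hx => ?_)
  obtain ⟨q, hq, c, hc, rfl⟩ := mem_sup_of_normal_left.1 hx
  have e : n * (q * c) * n⁻¹ = (n * q * n⁻¹) * (n * c * n⁻¹) := by group
  rw [e]
  exact mul_mem_sup ((inferInstance : Q.Normal).conj_mem q hq n)
    (mem_inf.2 ⟨(inferInstance : U.Normal).conj_mem c hc.1 n,
      CfsgLib.Coprime.mem_normalizer_conj (hC hn) hc.2⟩)

theorem hasCorePair_aux {k : ℕ}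
    (hT : ∀ (G : Type u) [Group G] [Finite G], IsPSolvable p G → ¬ PLengthLE p k G → HasPair p k G) :
    ∀ (n : ℕ) (X : Type u) [Group X] [Finite X], IsPSolvable p X → Nat.card X ≤ n →
      ¬ PLengthLE p k (X ⧸ pCore p X) → HasCorePair p k X := by
  intro n
  induction n with
  | zero => intro X _ _ _ h; exact absurd h (not_le.2 Nat.card_pos)
  | succ n ih =>
    intro X _ _ hX hn hl
    by_cases h0 : pCore p X = ⊥
    swap
    · exact corePair_of_surjective _ (QuotientGroup.mk'_surjective (pCore p X))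
        (ih _ (isPSolvable_quotient hX _) (by have := card_quotient_lt h0; omega)
          fun h => hl ((coreLen_of_bot pCore_quotient_pCore).1 h))
    rw [coreLen_of_bot h0] at hl
    set Q := pPrimeCore p X with hQdef
    have hlQ : ¬ PLengthLE p k (X ⧸ Q) := fun h =>
      hl (CfsgLib.HallHigman.pLengthLE_of_coprime_kernel _ pPrimeCore_coprime h)
    obtain ⟨a', b', hab⟩ := hT _ (isPSolvable_quotient hX Q) hlQ
    obtain ⟨a, rfl⟩ := QuotientGroup.mk'_surjective Q a'
    obtain ⟨b, rfl⟩ := QuotientGroup.mk'_surjective Q b'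
    set X0 := closure ({a, b} : Set X) with hX0
    by_cases hY : Q ⊔ X0 = ⊤
    swap
    · refine corePair_of_subgroup (Q ⊔ X0) (ih ↥(Q ⊔ X0) (isPSolvable_subgroup hX _)
        (by have := card_lt_of_ne_top hY; omega) ?_)
      rw [coreLen_of_bot (pCore_subgroup_eq_bot hX h0 le_sup_left)]
      intro h
      have he : (Q ⊔ X0).map (QuotientGroup.mk' Q) =
          closure {QuotientGroup.mk' Q a, QuotientGroup.mk' Q b} := by
        rw [Subgroup.map_sup, QuotientGroup.map_mk'_self, bot_sup_eq, hX0, closure_pair_map]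
      exact hab (CfsgLib.HallHigman.pLengthLE_of_surjective
        ((MulEquiv.subgroupCongr he).toMonoidHom.comp ((QuotientGroup.mk' Q).subgroupMap _))
        ((MulEquiv.subgroupCongr he).surjective.comp
          ((QuotientGroup.mk' Q).subgroupMap_surjective _)) h)
    set U := pPrimePCore p X with hUdef
    -- easy case: nothing of `U` is needed
    by_cases hlU : PLengthLE p k (X ⧸ U)
    swap
    · exact ⟨a, b, coreLen_supplement (D := U) pPrimeCore_le_pPrimePCore hY
        (fun y hy => pCore_supplement_le hY hy) hlU⟩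
    -- choose a Sylow subgroup of `Q`
    set pf := (Nat.card Q).primeFactors with hpf
    haveI : ∀ q : pf, Fact (q : ℕ).Prime := fun q => ⟨Nat.prime_of_mem_primeFactors q.2⟩
    let R : pf → Subgroup X := fun q =>
      ((default : Sylow (q : ℕ) Q) : Subgroup Q).map Q.subtype
    have hRQ : ∀ q, R q ≤ Q := fun q => map_subtype_le _
    have hRtop : ∀ q, Q ⊔ normalizer (R q : Set X) = ⊤ := fun q => by
      rw [sup_comm]; exact Sylow.normalizer_sup_eq_top _
    have hRcard : ∀ q, Nat.card (R q) = (q : ℕ) ^ (Nat.card Q).factorization q := fun q => by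
      rw [card_subtype]; exact Sylow.card_eq_multiplicity _
    have hDn : ∀ q, (Q ⊔ (U ⊓ centralizer (R q : Set X))).Normal := fun q =>
      sup_inf_normal (hRtop q) (CfsgLib.Techniques.normalizer_le_normalizer_centralizer (R q))
    obtain ⟨q, hq⟩ : ∃ q : pf, ¬ PLengthLE p k (X ⧸ (Q ⊔ (U ⊓ centralizer (R q : Set X)))) := by
      by_contra hc
      push Not at hc
      refine hlQ (pLengthLE_of_iInf_le (Finset.univ.image some ∪ {none} : Finset (Option pf))
        (fun o => o.elim U fun q => Q ⊔ (U ⊓ centralizer (R q : Set X)))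
        (fun o => by cases o with
          | none => exact pPrimePCore_normal_inst
          | some q => exact hDn q) (fun o _ => by cases o with
          | none => exact hlU
          | some q => exact hc q) Q ?_)
      intro g hg
      have hmem : ∀ o : Option pf, g ∈ o.elim U fun q => Q ⊔ (U ⊓ centralizer (R q : Set X)) :=
        fun o => (Finset.inf_le (s := (Finset.univ.image some ∪ {none} : Finset (Option pf)))
          (f := fun o' : Option pf => o'.elim U fun q => Q ⊔ (U ⊓ centralizer (R q : Set X)))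
          (by cases o <;> simp) : _ ≤ _) hg
      exact sInf_le_pPrimeCore hX h0 R hRQ hRcard (hmem none) fun q => hmem (some q)
    haveI := hDn q
    obtain ⟨a₁, b₁, hle₁, hgen₁⟩ := exists_pair_mem (hRtop q) hY
    set X1 := R q ⊔ closure ({a₁, b₁} : Set X) with hX1
    have hX1Q : Q ⊔ X1 = ⊤ :=
      top_le_iff.1 (hgen₁.ge.trans (sup_le le_sup_left (le_sup_right.trans le_sup_right)))
    have hRcop : (Nat.card (R q)).Coprime p :=
      Nat.Coprime.coprime_dvd_left (card_dvd_of_le (hRQ q)) pPrimeCore_coprime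
    by_cases hX1t : X1 = ⊤
    swap
    · refine corePair_of_subgroup X1 (ih X1 (isPSolvable_subgroup hX _)
        (by have := card_lt_of_ne_top hX1t; omega) ?_)
      refine coreLen_supplement le_sup_left hX1Q (fun y hy => mem_sup_right (mem_inf.2 ⟨?_, ?_⟩)) hq
      · exact pCore_supplement_le hX1Q hy
      · exact pCore_centralizes le_sup_left (sup_le Subgroup.le_normalizer hle₁) hRcop hy
    have hRn : (R q).Normal := by
      rw [← normalizer_eq_top_iff, ← top_le_iff, ← hX1t]
      exact sup_le Subgroup.le_normalizer hle₁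
    -- a smallest normal subgroup of prime-power order that still works
    have hex : ∃ m : ℕ, ∃ W : Subgroup X, ∃ _ : W.Normal, Nat.card W = m ∧ W ≤ Q ∧
        IsPGroup (q : ℕ) W ∧ ¬ PLengthLE p k (X ⧸ (Q ⊔ (U ⊓ centralizer (W : Set X)))) :=
      ⟨_, R q, hRn, rfl, hRQ q, IsPGroup.of_card (hRcard q), hq⟩
    classical
    obtain ⟨W, hWn, hWcard, hWQ, hWq, hW⟩ := Nat.find_spec hex
    have hWmin : ∀ M : Subgroup X, ∀ [M.Normal], M ≤ W → M ≠ W →
        PLengthLE p k (X ⧸ (Q ⊔ (U ⊓ centralizer (M : Set X)))) := by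
      intro M hM hle hne
      by_contra hc
      refine Nat.find_min hex (?_ : Nat.card M < _) ⟨M, hM, rfl, hle.trans hWQ, hWq.to_le hle, hc⟩
      rw [← hWcard]
      by_contra h
      exact hne (eq_of_le_of_card_ge hle (not_lt.1 h))
    have hWcop : (Nat.card W).Coprime p :=
      Nat.Coprime.coprime_dvd_left (card_dvd_of_le hWQ) pPrimeCore_coprime
    -- lifts normalising a Sylow subgroup of `U`
    obtain ⟨P⟩ := (inferInstance : Nonempty (Sylow p X))
    set S := (P : Subgroup X) ⊓ U with hS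
    have hQS : Q ⊔ S = U := CfsgLib.Techniques.sylow_inf_pPrimePCore_sup P
    have hNS : Q ⊔ normalizer (S : Set X) = ⊤ := by
      refine top_le_iff.1 fun g _ => ?_
      obtain ⟨d, hd, n, hn', rfl⟩ := CfsgLib.Techniques.exists_pPrimeCore_mul_normalizer P g
      exact mul_mem_sup hd hn'
    obtain ⟨a₂, b₂, hle₂, hgen₂⟩ := exists_pair_mem hNS hY
    set X2 := W ⊔ closure ({a₂, b₂} : Set X) with hX2
    have hX2Q : Q ⊔ X2 = ⊤ :=
      top_le_iff.1 (hgen₂.ge.trans (sup_le le_sup_left (le_sup_right.trans le_sup_right)))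
    by_cases hX2t : X2 = ⊤
    swap
    · refine corePair_of_subgroup X2 (ih X2 (isPSolvable_subgroup hX _)
        (by have := card_lt_of_ne_top hX2t; omega) ?_)
      refine coreLen_supplement le_sup_left hX2Q (fun y hy => mem_sup_right (mem_inf.2 ⟨?_, ?_⟩)) hW
      · exact pCore_supplement_le hX2Q hy
      · refine pCore_centralizes le_sup_left ?_ hWcop hy
        rw [normalizer_eq_top W]
        exact le_top
    -- `W` is minimal normal
    have hWbot : W ≠ ⊥ := by
      intro h
      refine hW (pLengthLE_of_surjective_ker (QuotientGroup.mk' U) (QuotientGroup.mk'_surjective _)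
        (QuotientGroup.mk' _) (QuotientGroup.mk'_surjective _) ?_ hlU)
      rw [QuotientGroup.ker_mk', QuotientGroup.ker_mk']
      intro x hx
      refine mem_sup_right (mem_inf.2 ⟨hx, ?_⟩)
      intro w hw
      rw [h, SetLike.mem_coe, mem_bot] at hw
      simp [hw]
    by_cases hsub : ∃ M : Subgroup X, M.Normal ∧ M ≤ W ∧ M ≠ ⊥ ∧ M ≠ W
    · obtain ⟨M, hMn, hMW, hMb, hMne⟩ := hsub
      have hM := hWmin M hMW hMne
      set D' := Q ⊔ (U ⊓ secKer M W) with hD'
      by_cases hl' : PLengthLE p k (X ⧸ D')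
      · exfalso
        refine hW ?_
        refine pLengthLE_of_surjective_ker
          (QuotientGroup.mk' ((Q ⊔ (U ⊓ centralizer (M : Set X))) ⊓ D'))
          (QuotientGroup.mk'_surjective _) (QuotientGroup.mk' _) (QuotientGroup.mk'_surjective _) ?_
          (CfsgLib.HallHigman.pLengthLE_quotient_inf _ _ hM hl')
        rw [QuotientGroup.ker_mk', QuotientGroup.ker_mk']
        intro g hg
        have hgU : g ∈ U := sup_inf_le_pPrimePCore _ hg.1
        refine mem_of_pow_core le_sup_left hgU ?_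
        obtain ⟨s, hsC, hsp, hsg⟩ := exists_pElement_congr hg.1
        obtain ⟨s', hs'C, hs'p, hs'g⟩ := exists_pElement_congr hg.2
        have hcongr : s⁻¹ * s' ∈ Q := by
          have := mul_mem hsg (inv_mem hs'g)
          simpa [mul_assoc] using this
        obtain ⟨x, -, he⟩ := exists_conj_of_congr pPrimeCore_coprime hsp hs'p hcongr
        have hsK : s ∈ secKer M W := he ▸ (secKer_normal M W).conj_mem s' hs'C x
        have hsW : s ∈ centralizer (W : Set X) := by
          obtain ⟨i, hi⟩ := hsp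
          refine mem_of_coprime_pows
            (Nat.Coprime.pow_left i (Nat.Coprime.coprime_dvd_left (card_dvd_of_le hMW) hWcop).symm)
            (by rw [hi]; exact one_mem _) fun w hw => ?_
          have h1 : w * s * w⁻¹ * s⁻¹ ∈ M := by
            have h2 := (mem_secKer.1 hsK w hw).eq
            rw [← QuotientGroup.eq_one_iff, QuotientGroup.mk_mul, QuotientGroup.mk_mul,
              QuotientGroup.mk_mul, QuotientGroup.mk_inv, QuotientGroup.mk_inv]
            rw [mul_inv_eq_one, mul_inv_eq_iff_eq_mul]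
            exact h2.symm
          set m := w * s * w⁻¹ * s⁻¹ with hm
          have hcm : Commute m s := hsC m h1
          have h3 : w * s * w⁻¹ = m * s := by rw [hm]; group
          have h4 : w * s ^ Nat.card M * w⁻¹ = s ^ Nat.card M := by
            rw [← conj_pow, h3, hcm.mul_pow]
            have h5 := congrArg Subtype.val (pow_card_eq_one' (x := (⟨m, h1⟩ : M)))
            rw [SubgroupClass.coe_pow, OneMemClass.coe_one] at h5
            rw [h5, one_mul]
          exact mul_inv_eq_iff_eq_mul.1 h4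
        have hsU : s ∈ U := by
          have h := mul_mem (pow_mem hgU (Nat.card (pPrimeCore p X)))
            (inv_mem (pPrimeCore_le_pPrimePCore hsg))
          rw [mul_inv_rev, inv_inv, mul_inv_cancel_left] at h
          exact h
        have := mul_mem_sup (mem_inf.2 ⟨hsU, hsW⟩ : s ∈ U ⊓ centralizer (W : Set X)) hsg
        rw [mul_inv_cancel_left, sup_comm] at this
        exact this
      · haveI hD'n : D'.Normal := by rw [hD']; infer_instance
        refine corePair_of_surjective _ (QuotientGroup.mk'_surjective M)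
          (ih _ (isPSolvable_quotient hX _) (by have := card_quotient_lt hMb; omega) ?_)
        intro hc
        refine hl' (pLengthLE_of_surjective_ker
          ((QuotientGroup.mk' _).comp (QuotientGroup.mk' M))
          ((QuotientGroup.mk'_surjective _).comp (QuotientGroup.mk'_surjective _))
          (QuotientGroup.mk' D') (QuotientGroup.mk'_surjective _) ?_ hc)
        rw [← MonoidHom.comap_ker, QuotientGroup.ker_mk', QuotientGroup.ker_mk']
        intro g hg
        refine mem_sup_right (mem_inf.2 ⟨?_, ?_⟩)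
        · rw [hUdef, pPrimePCore, mem_comap]
          have hf : Function.Surjective (QuotientGroup.map M Q (MonoidHom.id X) (hMW.trans hWQ)) := by
            intro z
            obtain ⟨x, rfl⟩ := QuotientGroup.mk'_surjective _ z
            exact ⟨QuotientGroup.mk' M x, rfl⟩
          exact map_pCore_le _ hf ⟨QuotientGroup.mk' M g, hg, rfl⟩
        · rw [secKer, mem_comap]
          haveI : (W.map (QuotientGroup.mk' M)).Normal :=
            Normal.map inferInstance _ (QuotientGroup.mk'_surjective _)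
          have hle : W.map (QuotientGroup.mk' M) ≤ pPrimeCore p (X ⧸ M) :=
            le_pPrimeCore inferInstance (Nat.Coprime.coprime_dvd_left (card_map_dvd _ _) hWcop)
          intro z hz
          exact pCore_le_centralizer_pPrimeCore hg z (hle hz)
    have hmin : ∀ M : Subgroup X, M.Normal → M ≤ W → M = ⊥ ∨ M = W := by
      intro M hM hle
      by_contra hc
      push Not at hc
      exact hsub ⟨M, hM, hle, hc.1, hc.2⟩
    haveI : Nontrivial W := (nontrivial_iff_ne_bot W).2 hWbot
    have hWab : ∀ x ∈ W, ∀ y ∈ W, Commute x y := by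
      have hne := hWq.bot_lt_center
      rcases hmin ((center W).map W.subtype) inferInstance (map_subtype_le _) with h | h
      · exact absurd ((map_eq_bot_iff_of_injective _ W.subtype_injective).1 h) hne.ne'
      · intro x hx y hy
        rw [← h] at hy
        obtain ⟨y', hy', rfl⟩ := hy
        exact congrArg Subtype.val (mem_center_iff.1 hy' ⟨x, hx⟩)
    have hWSn : (W ⊔ S).Normal := by
      rw [← normalizer_eq_top_iff, ← top_le_iff, ← hX2t]
      refine sup_le (le_sup_left.trans Subgroup.le_normalizer)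
        (le_normalizer_iff.2 fun n hn' x hx => ?_)
      obtain ⟨w, hw, s, hs, rfl⟩ := mem_sup_of_normal_left.1 hx
      have e : n * (w * s) * n⁻¹ = (n * w * n⁻¹) * (n * s * n⁻¹) := by group
      rw [e]
      exact mul_mem_sup (hWn.conj_mem w hw n) (CfsgLib.Coprime.mem_normalizer_conj (hle₂ hn') hs)
    have hC : W ⊓ centralizer (S : Set X) = ⊥ := by
      have hn' : (W ⊓ centralizer (S : Set X)).Normal := by
        rw [← normalizer_eq_top_iff, ← top_le_iff, ← hX2t]
        refine sup_le (le_normalizer_iff.2 fun w hw x hx => ?_)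
          (le_normalizer_iff.2 fun n hn' x hx => mem_inf.2 ⟨hWn.conj_mem x hx.1 n,
            CfsgLib.Coprime.mem_normalizer_conj
              (CfsgLib.Techniques.normalizer_le_normalizer_centralizer S (hle₂ hn')) hx.2⟩)
        rwa [(hWab w hw x hx.1).eq, mul_inv_cancel_right]
      refine (hmin _ hn' inf_le_left).resolve_right fun h => hW ?_
      refine pLengthLE_of_surjective_ker (QuotientGroup.mk' U) (QuotientGroup.mk'_surjective _)
        (QuotientGroup.mk' _) (QuotientGroup.mk'_surjective _) ?_ hlU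
      rw [QuotientGroup.ker_mk', QuotientGroup.ker_mk', ← hQS]
      refine sup_le le_sup_left fun s hs => mem_sup_right (mem_inf.2 ⟨mem_sup_right hs, ?_⟩)
      exact le_centralizer_iff.1 (inf_eq_left.1 h) hs
    have hcop : (Nat.card W).Coprime (Nat.card S) := by
      obtain ⟨e, he⟩ := IsPGroup.iff_card.1 (P.isPGroup'.to_le (inf_le_left : S ≤ P))
      rw [he]; exact Nat.Coprime.pow_right e hWcop
    obtain ⟨u, v, huv⟩ := exists_pair_eq_top' W S hWab hWbot hmin hcop hC hX2t
    refine ⟨u, v, fun hc => hl ?_⟩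
    refine (coreLen_of_bot h0).1 ?_
    exact coreLen_of_surjective ((MulEquiv.subgroupCongr huv).trans topEquiv).toMonoidHom
      ((MulEquiv.subgroupCongr huv).trans topEquiv).surjective hc

/-- In a `p`-soluble group some two-generated subgroup has the same `p`-length. -/
theorem hasPair_of_not_pLengthLE : ∀ (k : ℕ) (G : Type u) [Group G] [Finite G],
    IsPSolvable p G → ¬ PLengthLE p k G → HasPair p k G := by
  intro k
  induction k with
  | zero => exact fun G _ _ _ h => hasPair_zero h
  | succ k ih =>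
    exact fun G _ _ hG h => hasPair_succ_aux
      (fun X _ _ hX hX' => hasCorePair_aux ih _ X hX le_rfl hX') _ G hG le_rfl h

end CfsgLib.Powell
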