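import Cfsg.Agent.Lib.Powell.Basic
import Cfsg.Agent.Lib.Coprime.Action

/-!
Chief sections of a normal `p`-subgroup, and lifting two generators over a complemented
minimal normal subgroup by counting complements.
-/

set_option autoImplicit false
set_option linter.unusedSectionVars false
set_option linter.style.haveILetI false

namespace CfsgLib.Powell

open Subgroup Cfsg CfsgLib.PCore
open scoped Pointwise

variable {G : Type*} [Group G] [Finite G]

omit [Finite G] in
theorem closure_pair_map {H : Type*} [Group H] (f : G →* H) (a b : G) :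
    (closure ({a, b} : Set G)).map f = closure ({f a, f b} : Set H) := by
  rw [MonoidHom.map_closure, Set.image_pair]

/-- Complements of an abelian normal subgroup which are normalisers of a coprime subgroup: two
generators lift, with the first one unchanged. -/
theorem exists_pair_eq_top (W S : Subgroup G) [W.Normal]
    (hWab : ∀ a ∈ W, ∀ b ∈ W, Commute a b)
    (hmin : ∀ M : Subgroup G, M.Normal → M ≤ W → M = ⊥ ∨ M = W)
    [(W ⊔ S).Normal] (hcop : (Nat.card W).Coprime (Nat.card S))
    (hC : W ⊓ centralizer (S : Set G) = ⊥) {a b : G}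
    (hgen : W ⊔ closure ({a, b} : Set G) = ⊤) (ha : a ∉ centralizer (W : Set G)) :
    ∃ v ∈ W, closure ({a, b * v} : Set G) = ⊤ := by
  classical
  by_contra hcon
  push Not at hcon
  set K : W → Subgroup G := fun v => closure ({a, b * (v : G)} : Set G) with hK
  have hKa : ∀ v : W, a ∈ K v := fun v => subset_closure (by simp)
  have hKb : ∀ v : W, b * (v : G) ∈ K v := fun v => subset_closure (by simp)
  have hsup : ∀ v : W, W ⊔ K v = ⊤ := by
    intro v
    rw [← top_le_iff, ← hgen]
    refine sup_le le_sup_left ((closure_le _).2 ?_)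
    intro x hx
    rcases hx with h | h <;> rw [h]
    · exact mem_sup_right (hKa v)
    · have := mul_mem (mem_sup_right (hKb v) : b * (v : G) ∈ W ⊔ K v) (mem_sup_left (inv_mem v.2))
      simpa using this
  have hinf : ∀ v : W, K v ⊓ W = ⊥ := by
    intro v
    have hn : (K v ⊓ W).Normal := by
      rw [← normalizer_eq_top_iff, ← top_le_iff, ← hsup v]
      refine sup_le (fun w hw => ?_) (le_normalizer_iff.2 fun k hk x hx => ?_)
      · rw [mem_normalizer_iff]
        intro x
        constructor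
        · intro hx
          rwa [(hWab w hw x hx.2).eq, mul_inv_cancel_right]
        · intro hx
          have h2 : x = w⁻¹ * (w * x * w⁻¹) * w := by group
          rw [h2, (hWab w⁻¹ (inv_mem hw) _ hx.2).eq, inv_mul_cancel_right]
          exact hx
      · exact mem_inf.2 ⟨mul_mem (mul_mem hk hx.1) (inv_mem hk), (inferInstance : W.Normal).conj_mem x hx.2 k⟩
    rcases hmin _ hn inf_le_right with h | h
    · exact h
    · exfalso
      refine hcon v v.2 (top_le_iff.1 ?_)
      rw [← hsup v]
      exact sup_le (h.ge.trans inf_le_left) le_rfl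
  have hWS : W ⊓ S = ⊥ := Subgroup.inf_eq_bot_of_coprime hcop
  have hNW : normalizer (S : Set G) ⊓ W = ⊥ := by
    rw [eq_bot_iff, ← hC]
    refine fun w hw => ⟨hw.2, fun s hs => ?_⟩
    have h1 : w * s * w⁻¹ * s⁻¹ ∈ S := mul_mem ((mem_normalizer_iff.1 hw.1 s).1 hs) (inv_mem hs)
    have h2 : w * s * w⁻¹ * s⁻¹ ∈ W := by
      have e : w * s * w⁻¹ * s⁻¹ = w * (s * w⁻¹ * s⁻¹) := by group
      rw [e]
      exact mul_mem hw.2 ((inferInstance : W.Normal).conj_mem _ (inv_mem hw.2) s)
    have h3 : w * s * w⁻¹ * s⁻¹ = 1 := mem_bot.1 (hWS ▸ ⟨h2, h1⟩)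
    exact (mul_inv_eq_iff_eq_mul.1 (mul_inv_eq_one.1 h3)).symm
  -- every `K v` is a conjugate of the normaliser of `S`
  have hconj : ∀ v : W, ∃ x : W, MulAut.conj (x : G) • K v = normalizer (S : Set G) := by
    intro v
    set SK := K v ⊓ (W ⊔ S) with hSKdef
    have h1 : W ⊔ SK = W ⊔ S := by
      refine le_antisymm (sup_le le_sup_left inf_le_right) fun x hx => ?_
      obtain ⟨w, hw, k, hk, rfl⟩ := mem_sup_of_normal_left.1 (hsup v ▸ mem_top x)
      refine mul_mem_sup hw ⟨hk, ?_⟩
      have := mul_mem ((le_sup_left : W ≤ W ⊔ S) (inv_mem hw)) hx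
      simpa using this
    have hcard : Nat.card SK = Nat.card S := by
      have a1 := CfsgLib.Coprime.card_sup_of_disjoint (H := SK) (N := W)
        Subgroup.le_normalizer_of_normal (eq_bot_iff.2 fun x hx => (hinf v).le ⟨hx.2.1, hx.1⟩)
      have a2 := CfsgLib.Coprime.card_sup_of_disjoint (H := S) (N := W)
        Subgroup.le_normalizer_of_normal hWS
      rw [sup_comm, h1, sup_comm] at a1
      rw [a1] at a2
      exact Nat.eq_of_mul_eq_mul_right Nat.card_pos a2
    have hWsol : Group.IsSolvable W := by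
      exact Group.isSolvable_of_comm fun x y => Subtype.ext (hWab x x.2 y y.2).eq
    obtain ⟨x, hx, hle⟩ := CfsgLib.Coprime.exists_conj_le_of_coprime S W
      Subgroup.le_normalizer_of_normal hcop.symm SK ((le_sup_right.trans h1.le).trans (sup_comm W S).le)
      (by rw [hcard]; exact hcop.symm) (Or.inr hWsol)
    have heq : MulAut.conj x • SK = S :=
      eq_of_le_of_card_ge hle (by rw [CfsgLib.Coprime.card_conj_smul, hcard])
    have hN : MulAut.conj x • K v ≤ normalizer (S : Set G) := by
      refine CfsgLib.Coprime.conj_smul_le.2 fun k hk => ?_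
      rw [mem_normalizer_iff]
      intro s
      have hS : ∀ t, t ∈ S ↔ x⁻¹ * t * x ∈ SK := fun t => by
        rw [← heq, mem_pointwise_smul_iff_inv_smul_mem]
        simp [MulAut.smul_def]
      have hk' : ∀ t, t ∈ SK → k * t * k⁻¹ ∈ SK := fun t ht =>
        mem_inf.2 ⟨mul_mem (mul_mem hk ht.1) (inv_mem hk), (inferInstance : (W ⊔ S).Normal).conj_mem t ht.2 k⟩
      have hk'' : ∀ t, t ∈ SK → k⁻¹ * t * k ∈ SK := fun t ht =>
        mem_inf.2 ⟨mul_mem (mul_mem (inv_mem hk) ht.1) hk, by
          simpa using (inferInstance : (W ⊔ S).Normal).conj_mem t ht.2 k⁻¹⟩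
      constructor
      · intro hs
        rw [hS]
        have := hk' _ ((hS s).1 hs)
        simpa [mul_assoc] using this
      · intro hs
        rw [hS]
        have := hk'' _ ((hS _).1 hs)
        simpa [mul_assoc] using this
    refine ⟨⟨x, hx⟩, le_antisymm hN fun n hn => ?_⟩
    have hn' : x⁻¹ * n * x ∈ W ⊔ K v := by rw [hsup v]; exact mem_top _
    obtain ⟨w, hw, k, hk, he⟩ := mem_sup_of_normal_left.1 hn'
    have h2 : x * k * x⁻¹ ∈ MulAut.conj x • K v := ⟨k, hk, by simp⟩
    have h3 : n * (x * k * x⁻¹)⁻¹ ∈ normalizer (S : Set G) ⊓ W := by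
      refine mem_inf.2 ⟨mul_mem hn (inv_mem (hN h2)), ?_⟩
      have : n * (x * k * x⁻¹)⁻¹ = x * w * x⁻¹ := by
        rw [show n = x * (w * k) * x⁻¹ by rw [he]; group]; group
      rw [this]
      exact (inferInstance : W.Normal).conj_mem w hw x
    rw [hNW, mem_bot, mul_inv_eq_one] at h3
    rw [h3]; exact h2
  choose x hx using hconj
  -- all of them contain `a`
  have hy : ∀ v : W, ((x v : G))⁻¹ * (x 1 : G) ∈ centralizer ({a} : Set G) := by
    intro v
    set y : G := (x v : G)⁻¹ * (x 1 : G) with hy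
    have h1 : MulAut.conj y • K 1 = K v := by
      rw [hy, map_mul, mul_smul, hx 1, ← hx v, map_inv, inv_smul_smul]
    have h2 : y * a * y⁻¹ ∈ K v := by rw [← h1]; exact ⟨a, hKa 1, by simp⟩
    have h3 : y * a * y⁻¹ * a⁻¹ ∈ K v ⊓ W := by
      refine mem_inf.2 ⟨mul_mem h2 (inv_mem (hKa v)), ?_⟩
      have e : y * a * y⁻¹ * a⁻¹ = y * (a * y⁻¹ * a⁻¹) := by group
      have hyW : y ∈ W := mul_mem (inv_mem (x v).2) (x 1).2
      rw [e]
      exact mul_mem hyW ((inferInstance : W.Normal).conj_mem _ (inv_mem hyW) a)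
    rw [hinf v, mem_bot, mul_inv_eq_one] at h3
    exact mem_centralizer_singleton_iff.2 (mul_inv_eq_iff_eq_mul.1 h3)
  let φ : W → ↥(W ⊓ centralizer ({a} : Set G)) := fun v =>
    ⟨(x v : G)⁻¹ * (x 1 : G), mem_inf.2 ⟨mul_mem (inv_mem (x v).2) (x 1).2, hy v⟩⟩
  have hφ : Function.Injective φ := by
    intro v v' h
    have h' : (x v : G)⁻¹ * (x 1 : G) = (x v' : G)⁻¹ * (x 1 : G) := congrArg Subtype.val h
    have hKeq : K v = K v' := by
      have e := mul_right_cancel h'
      have e2 := inv_injective e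
      have := (hx v).trans (hx v').symm
      rw [e2] at this
      exact (smul_left_cancel_iff _).1 this
    have h4 : (v : G)⁻¹ * (v' : G) ∈ K v ⊓ W := by
      refine mem_inf.2 ⟨?_, mul_mem (inv_mem v.2) v'.2⟩
      have := mul_mem (inv_mem (hKb v)) (hKeq ▸ hKb v' : b * (v' : G) ∈ K v)
      simpa [mul_assoc] using this
    rw [hinf v, mem_bot, inv_mul_eq_one] at h4
    exact Subtype.ext h4
  have hle := Nat.card_le_card_of_injective φ hφ
  have heq := eq_of_le_of_card_ge (inf_le_left : W ⊓ centralizer ({a} : Set G) ≤ W) hle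
  refine ha fun w hw => ?_
  exact mem_centralizer_singleton_iff.1 (heq.ge hw).2

/-- As `exists_pair_eq_top`, with either generator allowed to move. -/
theorem exists_pair_eq_top' (W S : Subgroup G) [W.Normal]
    (hWab : ∀ a ∈ W, ∀ b ∈ W, Commute a b) (hW : W ≠ ⊥)
    (hmin : ∀ M : Subgroup G, M.Normal → M ≤ W → M = ⊥ ∨ M = W)
    [(W ⊔ S).Normal] (hcop : (Nat.card W).Coprime (Nat.card S))
    (hC : W ⊓ centralizer (S : Set G) = ⊥) {a b : G}
    (hgen : W ⊔ closure ({a, b} : Set G) = ⊤) :
    ∃ u v : G, closure ({u, v} : Set G) = ⊤ := by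
  by_cases ha : a ∈ centralizer (W : Set G)
  · by_cases hb : b ∈ centralizer (W : Set G)
    · exfalso
      refine hW (eq_bot_iff.2 fun w hw => ?_)
      rw [← hC]
      refine ⟨hw, fun s _ => ?_⟩
      have hle : W ⊔ closure ({a, b} : Set G) ≤ centralizer {w} := by
        refine sup_le (fun v hv => mem_centralizer_singleton_iff.2 (hWab v hv w hw).eq) ?_
        rw [closure_le]
        rintro z (rfl | rfl)
        · exact mem_centralizer_singleton_iff.2 (ha w hw).symm
        · exact mem_centralizer_singleton_iff.2 (hb w hw).symm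
      rw [hgen] at hle
      exact mem_centralizer_singleton_iff.1 (hle (mem_top s))
    · obtain ⟨v, -, hv⟩ := exists_pair_eq_top W S hWab hmin hcop hC (a := b) (b := a)
        (by rwa [Set.pair_comm]) hb
      exact ⟨_, _, hv⟩
  · obtain ⟨v, -, hv⟩ := exists_pair_eq_top W S hWab hmin hcop hC hgen ha
    exact ⟨_, _, hv⟩

/-! ### Sections below a normal `p`-subgroup -/

/-- The kernel of the action on the section `B/A`. -/
def secKer (A B : Subgroup G) [A.Normal] : Subgroup G :=
  (centralizer ((B.map (QuotientGroup.mk' A)) : Set (G ⧸ A))).comap (QuotientGroup.mk' A)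

instance secKer_normal (A B : Subgroup G) [A.Normal] [B.Normal] : (secKer A B).Normal := by
  haveI : (B.map (QuotientGroup.mk' A)).Normal :=
    Normal.map inferInstance _ (QuotientGroup.mk'_surjective _)
  exact Normal.comap inferInstance _

theorem mem_secKer {A B : Subgroup G} [A.Normal] {g : G} :
    g ∈ secKer A B ↔ ∀ b ∈ B, Commute (QuotientGroup.mk' A g) (QuotientGroup.mk' A b) := by
  rw [secKer, mem_comap, mem_centralizer_iff]
  constructor
  · exact fun h b hb => (h _ ⟨b, hb, rfl⟩).symm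
  · rintro h _ ⟨b, hb, rfl⟩
    exact (h b hb).eq.symm

theorem secKer_bot_le (B : Subgroup G) : secKer ⊥ B ≤ centralizer (B : Set G) := fun g hg b hb => by
  have h := (mem_secKer.1 hg b hb).eq
  rw [← map_mul, ← map_mul] at h
  have h2 := QuotientGroup.eq.1 h
  rw [mem_bot, inv_mul_eq_one] at h2
  exact h2.symm

variable (p : ℕ) [hp : Fact p.Prime]

/-- The preimage of `O_p` of the group acting on the section. -/
def secCore (A B : Subgroup G) [A.Normal] [B.Normal] : Subgroup G :=
  (pCore p (G ⧸ secKer A B)).comap (QuotientGroup.mk' (secKer A B))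

instance secCore_normal (A B : Subgroup G) [A.Normal] [B.Normal] : (secCore p A B).Normal :=
  Normal.comap (pCore_normal p _) _

variable {p}

theorem secKer_le_secCore (A B : Subgroup G) [A.Normal] [B.Normal] :
    secKer A B ≤ secCore p A B := by
  intro x hx
  rw [secCore, mem_comap, QuotientGroup.mk'_apply, (QuotientGroup.eq_one_iff x).2 hx]
  exact one_mem _

theorem exists_pow_mem_secKer {A B : Subgroup G} [A.Normal] [B.Normal] {g : G}
    (hg : g ∈ secCore p A B) : ∃ k : ℕ, g ^ p ^ k ∈ secKer A B := by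
  obtain ⟨k, hk⟩ := pCore_isPGroup (G := G ⧸ secKer A B) (p := p) ⟨QuotientGroup.mk' _ g, hg⟩
  refine ⟨k, (QuotientGroup.eq_one_iff _).1 ?_⟩
  simpa using congrArg Subtype.val hk

theorem le_secCore {A B X : Subgroup G} [A.Normal] [B.Normal] [X.Normal]
    (h : ∀ x ∈ X, ∃ k : ℕ, x ^ p ^ k ∈ secKer A B) : X ≤ secCore p A B := by
  refine map_le_iff_le_comap.1 (le_pCore
    (Normal.map inferInstance _ (QuotientGroup.mk'_surjective _)) ?_)
  rintro ⟨_, x, hx, rfl⟩
  obtain ⟨k, hk⟩ := h x hx
  refine ⟨k, Subtype.ext ?_⟩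
  simpa [← QuotientGroup.mk_pow, QuotientGroup.eq_one_iff] using hk

theorem secCore_inf_le {A M B : Subgroup G} [A.Normal] [M.Normal] [B.Normal] (hAM : A ≤ M)
    (hMB : M ≤ B) (hB : IsPGroup p B) :
    secCore p A M ⊓ secCore p M B ≤ secCore p A B := by
  refine le_secCore fun x hx => ?_
  obtain ⟨i, hi⟩ := exists_pow_mem_secKer hx.1
  obtain ⟨j, hj⟩ := exists_pow_mem_secKer (pow_mem hx.2 (p ^ i))
  obtain ⟨e, he⟩ := IsPGroup.iff_card.1 hB
  refine ⟨i + j + e, ?_⟩
  rw [pow_add, pow_mul, pow_add, pow_mul]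
  set g := (x ^ p ^ i) ^ p ^ j
  have hg1 : g ∈ secKer A M := pow_mem hi _
  rw [mem_secKer]
  intro b hb
  set f := QuotientGroup.mk' A with hf
  have hm : g * b * g⁻¹ * b⁻¹ ∈ M := by
    have h1 := (mem_secKer.1 hj b hb).eq
    rw [← QuotientGroup.eq_one_iff, QuotientGroup.mk_mul, QuotientGroup.mk_mul, QuotientGroup.mk_mul,
      QuotientGroup.mk_inv, QuotientGroup.mk_inv]
    rw [mul_inv_eq_one, mul_inv_eq_iff_eq_mul]
    exact h1
  set m := g * b * g⁻¹ * b⁻¹ with hmdef
  have hcm : Commute (f g) (f m) := mem_secKer.1 hg1 m hm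
  have hiter : ∀ n : ℕ, f g ^ n * f b = f m ^ n * f b * f g ^ n := by
    intro n
    induction n with
    | zero => simp
    | succ n ih =>
      have h1 : f g * f b = f m * f b * f g := by
        simp only [hmdef, map_mul, map_inv]; group
      calc f g ^ (n + 1) * f b = f g * (f g ^ n * f b) := by rw [pow_succ', mul_assoc]
        _ = f g * (f m ^ n * f b * f g ^ n) := by rw [ih]
        _ = f m ^ n * (f g * f b) * f g ^ n := by
          rw [← mul_assoc, ← mul_assoc, (hcm.pow_right n).eq, mul_assoc (f m ^ n)]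
        _ = f m ^ (n + 1) * f b * (f g * f g ^ n) := by rw [h1, pow_succ]; group
        _ = f m ^ (n + 1) * f b * f g ^ (n + 1) := by simp [pow_succ']
  have hmB : m ^ p ^ e = 1 := by
    have hd : orderOf m ∣ p ^ e := he ▸ Subgroup.orderOf_dvd_natCard B (hMB hm)
    exact orderOf_dvd_iff_pow_eq_one.1 hd
  have h2 := hiter (p ^ e)
  rw [← map_pow f m, hmB, map_one, one_mul] at h2
  rw [map_pow]
  exact h2

/-- Elements of `O_{p',p}` of a supplement act trivially on a chief factor. -/
theorem pPrimePCore_le_secKer {A B U : Subgroup G} [A.Normal] [B.Normal] [U.Normal]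
    (hBp : IsPGroup p B) (hU : IsPGroup p U) (hAB : A ≤ B)
    (hmin : ∀ M : Subgroup G, M.Normal → A ≤ M → M ≤ B → M = A ∨ M = B)
    (Y : Subgroup G) (hBY : B ≤ Y) (hY : U ⊔ Y = ⊤) :
    U ≤ secKer A B ∧ (pPrimePCore p Y).map Y.subtype ≤ secKer A B := by
  set f := QuotientGroup.mk' A with hf
  have hfs : Function.Surjective f := QuotientGroup.mk'_surjective A
  haveI hVn : (B.map f).Normal := Normal.map inferInstance f hfs
  have hVmin : ∀ M : Subgroup (G ⧸ A), M.Normal → M ≤ B.map f → M = ⊥ ∨ M = B.map f := by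
    intro M hM hle
    have h1 : A ≤ M.comap f := fun x hx => by
      rw [mem_comap, hf, QuotientGroup.mk'_apply, (QuotientGroup.eq_one_iff x).2 hx]
      exact one_mem _
    have h2 : M.comap f ≤ B := by
      refine (comap_mono hle).trans ?_
      rw [comap_map_eq, hf, QuotientGroup.ker_mk']
      exact sup_le le_rfl hAB
    have hcomm := map_comap_eq_self_of_surjective hfs M
    rcases hmin _ (hM.comap f) h1 h2 with h | h
    · left
      rw [← hcomm, h, hf, QuotientGroup.map_mk'_self]
    · right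
      rw [← hcomm, h]
  have hUle : U ≤ secKer A B := by
    intro u hu
    rw [secKer, mem_comap]
    haveI : (U.map f).Normal := Normal.map inferInstance f hfs
    exact pPrimePCore_le_centralizer (B.map f) (hBp.map f) hVmin
      (pCore_le_pPrimePCore (le_pCore inferInstance (hU.map f) ⟨u, hu, rfl⟩))
  refine ⟨hUle, ?_⟩
  rintro _ ⟨⟨y, hy⟩, hyU, rfl⟩
  rw [secKer, mem_comap]
  set Z := Y.map f with hZ
  have hVZ : B.map f ≤ Z := map_mono hBY
  have hminZ : ∀ M : Subgroup Z, M.Normal → M ≤ (B.map f).subgroupOf Z →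
      M = ⊥ ∨ M = (B.map f).subgroupOf Z := by
    intro M hM hle
    have hMn : (M.map Z.subtype).Normal := by
      rw [← normalizer_eq_top_iff, ← top_le_iff,
        ← map_top_of_surjective f hfs, ← hY, Subgroup.map_sup]
      refine sup_le ?_ ?_
      · rintro _ ⟨u, hu, rfl⟩
        rw [mem_normalizer_iff]
        intro z
        constructor
        · intro hz
          obtain ⟨m, hm, rfl⟩ := hz
          have hc : (m : G ⧸ A) * f u = f u * (m : G ⧸ A) :=
            (mem_comap.1 (hUle hu)) _ (mem_subgroupOf.1 (hle hm))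
          rw [Subgroup.coe_subtype, ← hc, mul_inv_cancel_right]
          exact ⟨m, hm, rfl⟩
        · rintro ⟨m, hm, he⟩
          have hc : (m : G ⧸ A) * f u = f u * (m : G ⧸ A) :=
            (mem_comap.1 (hUle hu)) _ (mem_subgroupOf.1 (hle hm))
          have : z = m := by
            have e2 : (m : G ⧸ A) = f u * z * (f u)⁻¹ := he
            calc z = (f u)⁻¹ * (f u * z * (f u)⁻¹) * f u := by group
              _ = (f u)⁻¹ * ((m : G ⧸ A) * f u) := by rw [← e2, mul_assoc]
              _ = m := by rw [hc, inv_mul_cancel_left]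
          rw [this]
          exact ⟨m, hm, rfl⟩
      · refine le_normalizer_iff.2 ?_
        rintro k hk _ ⟨m, hm, rfl⟩
        exact ⟨⟨k, hk⟩ * m * ⟨k, hk⟩⁻¹, hM.conj_mem m hm ⟨k, hk⟩, rfl⟩
    have hMle : M.map Z.subtype ≤ B.map f := by
      rintro _ ⟨m, hm, rfl⟩
      exact mem_subgroupOf.1 (hle hm)
    rcases hVmin _ hMn hMle with h | h
    · exact Or.inl ((map_eq_bot_iff_of_injective M Z.subtype_injective).1 h)
    · refine Or.inr (map_injective Z.subtype_injective ?_)
      rw [h, map_subgroupOf_eq_of_le hVZ]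
  have h1 := map_pPrimePCore_le (p := p) (f.subgroupMap Y) (f.subgroupMap_surjective Y)
    ⟨⟨y, hy⟩, hyU, rfl⟩
  have h2 := pPrimePCore_le_centralizer ((B.map f).subgroupOf Z)
    ((hBp.map f).comap_of_injective _ Z.subtype_injective) hminZ h1
  intro v hv
  exact congrArg Subtype.val (h2 ⟨v, hVZ hv⟩ hv)

/-- A section on which a split property still holds, with no normal subgroup in between. -/
theorem exists_section (P : Subgroup G → Prop)
    (hsplit : ∀ E₁ E₂ : Subgroup G, E₁.Normal → E₂.Normal → P (E₁ ⊓ E₂) → P E₁ ∨ P E₂)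
    (hanti : ∀ N N' : Subgroup G, N.Normal → N'.Normal → N ≤ N' → P N' → P N)
    (U : Subgroup G) [U.Normal] (hU : IsPGroup p U) (hP : P (secCore p ⊥ U)) :
    ∃ (A B : Subgroup G) (_ : A.Normal) (_ : B.Normal), A ≤ B ∧ B ≤ U ∧
      (∀ M : Subgroup G, M.Normal → A ≤ M → M ≤ B → M = A ∨ M = B) ∧ P (secCore p A B) := by
  have key : ∀ n : ℕ, ∀ (A B : Subgroup G) [A.Normal] [B.Normal], A ≤ B → B ≤ U →
      Nat.card B - Nat.card A ≤ n → P (secCore p A B) →
      ∃ (A B : Subgroup G) (_ : A.Normal) (_ : B.Normal), A ≤ B ∧ B ≤ U ∧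
        (∀ M : Subgroup G, M.Normal → A ≤ M → M ≤ B → M = A ∨ M = B) ∧ P (secCore p A B) := by
    intro n
    induction n with
    | zero =>
      intro A B _ _ hAB hBU hn hPAB
      refine ⟨A, B, ‹_›, ‹_›, hAB, hBU, fun M _ h1 h2 => Or.inl ?_, hPAB⟩
      have := eq_of_le_of_card_ge hAB (by omega)
      subst this
      exact le_antisymm h2 h1
    | succ n ih =>
      intro A B _ _ hAB hBU hn hPAB
      by_cases hex : ∃ M : Subgroup G, M.Normal ∧ A ≤ M ∧ M ≤ B ∧ M ≠ A ∧ M ≠ B
      · obtain ⟨M, hM, hAM, hMB, hMA, hMB'⟩ := hex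
        have h1 : Nat.card A < Nat.card M := by
          by_contra h
          exact hMA (eq_of_le_of_card_ge hAM (not_lt.1 h)).symm
        have h2 : Nat.card M < Nat.card B := by
          by_contra h
          exact hMB' (eq_of_le_of_card_ge hMB (not_lt.1 h))
        rcases hsplit _ _ inferInstance inferInstance (hanti _ _ inferInstance inferInstance
          (secCore_inf_le hAM hMB (hU.to_le hBU)) hPAB) with h | h
        · exact ih A M hAM (hMB.trans hBU) (by omega) h
        · exact ih M B hMB hBU (by omega) h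
      · exact ⟨A, B, ‹_›, ‹_›, hAB, hBU, fun M hM h1 h2 => by
          by_contra hc
          push Not at hc
          exact hex ⟨M, hM, h1, h2, hc.1, hc.2⟩, hPAB⟩
  exact key _ ⊥ U bot_le le_rfl le_rfl hP

end CfsgLib.Powell
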