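import Cfsg.Agent.Lib.Powell.Lift
import Cfsg.Agent.Lib.Blocks.DualHallHigman

/-!
In a `p`-soluble group the `p`-length is attained by a two-generated subgroup.
-/

set_option autoImplicit false
set_option linter.unusedSectionVars false
set_option linter.style.haveILetI false

namespace CfsgLib.Powell

open Subgroup Cfsg CfsgLib.PCore

universe u

variable {p : ℕ} [hp : Fact p.Prime]

/-- A two-generated subgroup of `p`-length above `k`. -/
def HasPair (p k : ℕ) (G : Type u) [Group G] : Prop :=
  ∃ a b : G, ¬ PLengthLE p k ↥(closure ({a, b} : Set G))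

/-- A two-generated subgroup `K` with `K/O_p(K)` of `p`-length above `k`. -/
def HasCorePair (p k : ℕ) (G : Type u) [Group G] : Prop :=
  ∃ a b : G, ¬ PLengthLE p k (↥(closure ({a, b} : Set G)) ⧸ pCore p ↥(closure ({a, b} : Set G)))

theorem coreLen_of_surjective {G H : Type*} [Group G] [Finite G] [Group H] [Finite H] (f : G →* H)
    (hf : Function.Surjective f) {k : ℕ} (h : PLengthLE p k (G ⧸ pCore p G)) :
    PLengthLE p k (H ⧸ pCore p H) := by
  refine pLengthLE_of_surjective_ker (QuotientGroup.mk' _) (QuotientGroup.mk'_surjective _)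
    ((QuotientGroup.mk' (pCore p H)).comp f) ((QuotientGroup.mk'_surjective _).comp hf) ?_ h
  rw [QuotientGroup.ker_mk', ← MonoidHom.comap_ker, QuotientGroup.ker_mk']
  exact map_le_iff_le_comap.1 (map_pCore_le f hf)

theorem coreLen_of_bot {G : Type*} [Group G] [Finite G] (h : pCore p G = ⊥) {k : ℕ} :
    PLengthLE p k (G ⧸ pCore p G) ↔ PLengthLE p k G := by
  refine ⟨fun hl => ?_, fun hl => CfsgLib.HallHigman.pLengthLE_quotient _ hl⟩
  exact pLengthLE_of_surjective_ker (QuotientGroup.mk' _) (QuotientGroup.mk'_surjective _)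
    (MonoidHom.id G) Function.surjective_id (by rw [QuotientGroup.ker_mk', h]; exact bot_le) hl

variable {k : ℕ}

/-- Pairs related by a homomorphism generate related subgroups. -/
theorem exists_closure_hom {G H : Type*} [Group G] [Group H] (f : G →* H) (a b : G) :
    ∃ φ : ↥(closure ({a, b} : Set G)) →* ↥(closure ({f a, f b} : Set H)),
      Function.Surjective φ ∧ ∀ x, (φ x : H) = f (x : G) :=
  ⟨(MulEquiv.subgroupCongr (closure_pair_map f a b)).toMonoidHom.comp (f.subgroupMap _),
    (MulEquiv.subgroupCongr (closure_pair_map f a b)).surjective.comp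
      (f.subgroupMap_surjective _),
    fun _ => rfl⟩

/-- Pairs in a subgroup generate a subgroup isomorphic to the one generated in the group. -/
theorem exists_closure_hom_back {G : Type*} [Group G] (K : Subgroup G) (a b : K) :
    ∃ φ : ↥(closure ({(a : G), (b : G)} : Set G)) →* ↥(closure ({a, b} : Set K)),
      Function.Surjective φ := by
  obtain ⟨φ, hφ, hval⟩ := exists_closure_hom K.subtype a b
  have hb : Function.Bijective φ := ⟨fun x y h => Subtype.ext (Subtype.ext (by
    have := congrArg Subtype.val h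
    rwa [hval, hval] at this)), hφ⟩
  exact ⟨(MulEquiv.ofBijective φ hb).symm.toMonoidHom, (MulEquiv.ofBijective φ hb).symm.surjective⟩

theorem pair_of_surjective {G H : Type u} [Group G] [Finite G] [Group H] [Finite H] (f : G →* H)
    (hf : Function.Surjective f) : HasPair p k H → HasPair p k G := by
  rintro ⟨a, b, h⟩
  obtain ⟨a, rfl⟩ := hf a
  obtain ⟨b, rfl⟩ := hf b
  obtain ⟨φ, hφ, -⟩ := exists_closure_hom f a b
  exact ⟨a, b, fun hl => h (CfsgLib.HallHigman.pLengthLE_of_surjective φ hφ hl)⟩

theorem corePair_of_surjective {G H : Type u} [Group G] [Finite G] [Group H] [Finite H] (f : G →* H)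
    (hf : Function.Surjective f) : HasCorePair p k H → HasCorePair p k G := by
  rintro ⟨a, b, h⟩
  obtain ⟨a, rfl⟩ := hf a
  obtain ⟨b, rfl⟩ := hf b
  obtain ⟨φ, hφ, -⟩ := exists_closure_hom f a b
  exact ⟨a, b, fun hl => h (coreLen_of_surjective φ hφ hl)⟩

theorem pair_of_subgroup {G : Type u} [Group G] [Finite G] (K : Subgroup G) :
    HasPair p k K → HasPair p k G := by
  rintro ⟨a, b, h⟩
  obtain ⟨φ, hφ⟩ := exists_closure_hom_back K a b
  exact ⟨a, b, fun hl => h (CfsgLib.HallHigman.pLengthLE_of_surjective φ hφ hl)⟩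

theorem corePair_of_subgroup {G : Type u} [Group G] [Finite G] (K : Subgroup G) :
    HasCorePair p k K → HasCorePair p k G := by
  rintro ⟨a, b, h⟩
  obtain ⟨φ, hφ⟩ := exists_closure_hom_back K a b
  exact ⟨a, b, fun hl => h (coreLen_of_surjective φ hφ hl)⟩

theorem card_lt_of_ne_top {G : Type u} [Group G] [Finite G] {K : Subgroup G} (h : K ≠ ⊤) :
    Nat.card K < Nat.card G := by
  rw [← card_top (G := G)]
  by_contra hc
  exact h (eq_of_le_of_card_ge le_top (not_lt.1 hc))

theorem card_quotient_lt {G : Type u} [Group G] [Finite G] {N : Subgroup G} [N.Normal]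
    (h : N ≠ ⊥) : Nat.card (G ⧸ N) < Nat.card G := by
  rw [card_eq_card_quotient_mul_card_subgroup N]
  exact lt_mul_of_one_lt_right Nat.card_pos ((one_lt_card_iff_ne_bot N).2 h)

theorem pPrimeCore_subgroup_eq_bot {G : Type u} [Group G] [Finite G] (hG : IsPSolvable p G)
    (h0 : pPrimeCore p G = ⊥) {Y : Subgroup G} (hUY : pCore p G ≤ Y) : pPrimeCore p Y = ⊥ := by
  rw [← map_eq_bot_iff_of_injective _ Y.subtype_injective, eq_bot_iff]
  rintro _ ⟨o, ho, rfl⟩
  have h1 : (o : G) ∈ centralizer (pCore p G : Set G) := by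
    intro u hu
    have hu' : (⟨u, hUY hu⟩ : Y) ∈ pCore p Y := pCore_subgroupOf_le Y (mem_subgroupOf.2 hu)
    exact congrArg Subtype.val (pPrimeCore_le_centralizer_pCore ho _ hu')
  have h2 : o ∈ pCore p Y := pCore_subgroupOf_le Y (mem_subgroupOf.2 (centralizer_pCore_le hG h0 h1))
  have h3 : o ∈ pCore p Y ⊓ pPrimeCore p Y := ⟨h2, ho⟩
  rw [pCore_inf_pPrimeCore, mem_bot] at h3
  simp [h3]

theorem pCore_subgroup_eq_bot {G : Type u} [Group G] [Finite G] (hG : IsPSolvable p G)
    (h0 : pCore p G = ⊥) {Y : Subgroup G} (hQY : pPrimeCore p G ≤ Y) : pCore p Y = ⊥ := by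
  rw [← map_eq_bot_iff_of_injective _ Y.subtype_injective, eq_bot_iff]
  rintro _ ⟨o, ho, rfl⟩
  have h1 : (o : G) ∈ centralizer (pPrimeCore p G : Set G) := by
    intro u hu
    have hu' : (⟨u, hQY hu⟩ : Y) ∈ pPrimeCore p Y :=
      pPrimeCore_subgroupOf_le Y (mem_subgroupOf.2 hu)
    exact congrArg Subtype.val (pCore_le_centralizer_pPrimeCore ho _ hu')
  have h2 : o ∈ pPrimeCore p Y :=
    pPrimeCore_subgroupOf_le Y (mem_subgroupOf.2 (CfsgLib.DualHallHigman.centralizer_pPrimeCore_le hG h0 h1))
  have h3 : o ∈ pCore p Y ⊓ pPrimeCore p Y := ⟨ho, h2⟩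
  rw [pCore_inf_pPrimeCore, mem_bot] at h3
  simp [h3]

/-- A normal coprime complemented core above a self-centralising minimal normal `p`-subgroup. -/
theorem exists_complement_core {G : Type u} [Group G] [Finite G] (hG : IsPSolvable p G)
    (h0 : pPrimeCore p G = ⊥) (U : Subgroup G) [U.Normal] (hU : pCore p G = U)
    (hmin : ∀ M : Subgroup G, M.Normal → M ≤ U → M = ⊥ ∨ M = U) (hne : U ≠ ⊤) :
    ∃ S : Subgroup G, (U ⊔ S).Normal ∧ (Nat.card U).Coprime (Nat.card S) ∧
      U ⊓ centralizer (S : Set G) = ⊥ ∧ ∀ a ∈ U, ∀ b ∈ U, Commute a b := by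
  haveI : Nontrivial (G ⧸ U) := by
    rw [← not_subsingleton_iff_nontrivial]
    intro h
    refine hne (top_le_iff.1 fun x _ => ?_)
    exact (QuotientGroup.eq_one_iff x).1 (Subsingleton.elim _ _)
  have hUp : IsPGroup p U := hU ▸ pCore_isPGroup
  have hUab : ∀ a ∈ U, ∀ b ∈ U, Commute a b := by
    intro a ha b hb
    have h1 := pPrimePCore_le_centralizer U hUp hmin
      (pCore_le_pPrimePCore (hU.symm ▸ hb : b ∈ pCore p G))
    exact h1 a ha
  have hqne : pPrimeCore p (G ⧸ U) ≠ ⊥ := by
    refine (pCore_ne_bot_or_pPrimeCore_ne_bot (isPSolvable_quotient hG U)).resolve_left ?_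
    intro h
    apply h
    subst hU
    exact pCore_quotient_pCore
  set Qp := (pPrimeCore p (G ⧸ U)).comap (QuotientGroup.mk' U) with hQp
  have hUQ : U ≤ Qp := fun x hx => by
    rw [hQp, mem_comap, QuotientGroup.mk'_apply, (QuotientGroup.eq_one_iff x).2 hx]
    exact one_mem _
  obtain ⟨e, he⟩ := IsPGroup.iff_card.1 hUp
  have hidx : (U.subgroupOf Qp).index = Nat.card (pPrimeCore p (G ⧸ U)) := by
    change U.relIndex Qp = _
    rw [← card_map_mk', hQp, map_comap_eq_self_of_surjective (QuotientGroup.mk'_surjective _)]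
  have hcopU : (Nat.card U).Coprime (Nat.card (pPrimeCore p (G ⧸ U))) := by
    rw [he]
    exact Nat.Coprime.pow_left e pPrimeCore_coprime.symm
  obtain ⟨S0, hS0⟩ := exists_right_complement'_of_coprime (N := U.subgroupOf Qp)
    (by rw [hidx, CfsgLib.Coprime.card_subgroupOf hUQ]; exact hcopU)
  have hcardS : Nat.card (S0.map Qp.subtype) = Nat.card (pPrimeCore p (G ⧸ U)) := by
    rw [card_subtype, ← hidx]
    exact hS0.symm.index_eq_card.symm
  have hsupS : U ⊔ S0.map Qp.subtype = Qp := by
    have := congrArg (Subgroup.map Qp.subtype) hS0.sup_eq_top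
    rwa [Subgroup.map_sup, map_subgroupOf_eq_of_le hUQ, ← MonoidHom.range_eq_map, range_subtype] at this
  refine ⟨S0.map Qp.subtype, ?_, by rw [hcardS]; exact hcopU, ?_, hUab⟩
  · rw [hsupS]; exact Normal.comap (pPrimeCore_normal p _) _
  · haveI : Qp.Normal := Normal.comap (pPrimeCore_normal p _) _
    have hUUc : U ≤ centralizer (U : Set G) := fun u hu v hv => hUab v hv u hu
    have hnS : U ⊓ centralizer ((S0.map Qp.subtype : Subgroup G) : Set G) =
        U ⊓ centralizer (Qp : Set G) := by
      refine le_antisymm (fun x hx => mem_inf.2 ⟨hx.1, ?_⟩)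
        (inf_le_inf_left _ (centralizer_le (SetLike.coe_subset_coe.2
          ((le_sup_right : S0.map Qp.subtype ≤ U ⊔ S0.map Qp.subtype).trans hsupS.le))))
      have hle : Qp ≤ centralizer {x} := by
        rw [← hsupS]
        refine sup_le (fun u hu => mem_centralizer_singleton_iff.2 (hUab u hu x hx.1).eq)
          (fun s hs => mem_centralizer_singleton_iff.2 (hx.2 s hs))
      exact fun q hq => mem_centralizer_singleton_iff.1 (hle hq)
    rw [hnS]
    refine (hmin _ inferInstance inf_le_left).resolve_right fun h => hqne ?_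
    have hQC : Qp ≤ centralizer (U : Set G) := le_centralizer_iff.1 (inf_eq_left.1 h)
    have hC : centralizer (U : Set G) ≤ U := by
      have := centralizer_pCore_le hG h0
      rwa [hU] at this
    rw [← card_eq_one, ← hidx, index_eq_one, subgroupOf_eq_top]
    exact hQC.trans hC

/-- The quotient criterion for a minimal normal subgroup. -/
theorem comap_pPrimePCore_le_secKer {G : Type u} [Group G] [Finite G] {A B U D : Subgroup G}
    [A.Normal] [B.Normal] [U.Normal] [D.Normal] (hBp : IsPGroup p B) (hU : IsPGroup p U)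
    (hAB : A ≤ B) (hmin : ∀ M : Subgroup G, M.Normal → A ≤ M → M ≤ B → M = A ∨ M = B)
    (hD : B ⊓ D ≤ A) :
    (pPrimePCore p (G ⧸ D)).comap (QuotientGroup.mk' D) ≤ secKer A B := by
  intro g hg
  set f := QuotientGroup.mk' D
  have hfs : Function.Surjective f := QuotientGroup.mk'_surjective D
  haveI : (A.map f).Normal := Normal.map inferInstance f hfs
  haveI : (B.map f).Normal := Normal.map inferInstance f hfs
  have hmin' : ∀ M : Subgroup (G ⧸ D), M.Normal → A.map f ≤ M → M ≤ B.map f →
      M = A.map f ∨ M = B.map f := by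
    intro M hM h1 h2
    have hA : A ≤ M.comap f ⊓ B := le_inf (map_le_iff_le_comap.1 h1) hAB
    have hMf : M = (M.comap f ⊓ B).map f := by
      refine le_antisymm (fun z hz => ?_) ((map_mono inf_le_left).trans (map_comap_le _ _))
      obtain ⟨b, hb, rfl⟩ := h2 hz
      exact ⟨b, ⟨hz, hb⟩, rfl⟩
    haveI := hM.comap f
    rcases hmin _ inferInstance hA inf_le_right with h | h <;> rw [hMf, h]
    · exact Or.inl rfl
    · exact Or.inr rfl
  obtain ⟨-, h2⟩ := pPrimePCore_le_secKer (U := (⊥ : Subgroup (G ⧸ D))) (hBp.map f) IsPGroup.of_bot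
    (map_mono hAB) hmin' ⊤ le_top (by simp)
  have h3 : f g ∈ secKer (A.map f) (B.map f) := by
    refine h2 ⟨⟨f g, mem_top _⟩, ?_, rfl⟩
    exact map_pPrimePCore_le (topEquiv (G := G ⧸ D)).symm.toMonoidHom topEquiv.symm.surjective
      ⟨f g, hg, rfl⟩
  rw [mem_secKer]
  intro b hb
  have h4 := (mem_secKer.1 h3 (f b) ⟨b, hb, rfl⟩).eq
  set c := (g * b)⁻¹ * (b * g) with hc
  have h5 : f c ∈ A.map f := by
    rw [← map_mul, ← map_mul] at h4
    have := QuotientGroup.eq.1 h4
    simpa [hc, map_mul, map_inv] using this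
  obtain ⟨a, ha, hae⟩ := h5
  have hcB : c ∈ B := by
    have e : c = b⁻¹ * (g⁻¹ * b * g) := by rw [hc]; group
    rw [e]
    exact mul_mem (inv_mem hb) (by simpa using (inferInstance : B.Normal).conj_mem b hb g⁻¹)
  have h6 : a⁻¹ * c ∈ A := hD (mem_inf.2 ⟨mul_mem (inv_mem (hAB ha)) hcB, QuotientGroup.eq.1 hae⟩)
  have hcA : c ∈ A := by simpa using mul_mem ha h6
  rw [commute_iff_eq, ← map_mul, ← map_mul]
  exact QuotientGroup.eq.2 hcA

theorem hasPair_succ_aux
    (hT' : ∀ (G : Type u) [Group G] [Finite G], IsPSolvable p G →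
      ¬ PLengthLE p k (G ⧸ pCore p G) → HasCorePair p k G) :
    ∀ (n : ℕ) (G : Type u) [Group G] [Finite G], IsPSolvable p G → Nat.card G ≤ n →
      ¬ PLengthLE p (k + 1) G → HasPair p (k + 1) G := by
  intro n
  induction n with
  | zero => intro G _ _ _ h; exact absurd h (not_le.2 Nat.card_pos)
  | succ n ih =>
    intro G _ _ hG hn hl
    by_cases h0 : pPrimeCore p G = ⊥
    swap
    · exact pair_of_surjective _ (QuotientGroup.mk'_surjective (pPrimeCore p G))
        (ih _ (isPSolvable_quotient hG _) (by have := card_quotient_lt h0; omega)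
          fun h => hl (CfsgLib.HallHigman.pLengthLE_of_coprime_kernel _ pPrimeCore_coprime h))
    have hbar : ¬ PLengthLE p k ((G ⧸ pCore p G) ⧸ pCore p (G ⧸ pCore p G)) := fun h =>
      hl (CfsgLib.HallHigman.pLengthLE_succ_of_pGroup_kernel _ pCore_isPGroup
        ((coreLen_of_bot pCore_quotient_pCore).1 h))
    set U := pCore p G with hU
    obtain ⟨a', b', hab⟩ := hT' _ (isPSolvable_quotient hG U) hbar
    obtain ⟨a, rfl⟩ := QuotientGroup.mk'_surjective U a'
    obtain ⟨b, rfl⟩ := QuotientGroup.mk'_surjective U b'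
    set X0 := closure ({a, b} : Set G) with hX0
    -- the preimage of the two-generated subgroup
    by_cases hY : U ⊔ X0 = ⊤
    swap
    · refine pair_of_subgroup (U ⊔ X0) (ih ↥(U ⊔ X0) (isPSolvable_subgroup hG _)
        (by have := card_lt_of_ne_top hY; omega) ?_)
      have hO : pPrimeCore p ↥(U ⊔ X0) = ⊥ := pPrimeCore_subgroup_eq_bot hG h0 le_sup_left
      intro h
      have h1 := CfsgLib.HallHigman.pLengthLE_quotient_pCore hO h
      have he : (U ⊔ X0).map (QuotientGroup.mk' U) =
          closure {QuotientGroup.mk' U a, QuotientGroup.mk' U b} := by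
        rw [Subgroup.map_sup, QuotientGroup.map_mk'_self, bot_sup_eq, hX0, closure_pair_map]
      exact hab (coreLen_of_surjective (((MulEquiv.subgroupCongr he).toMonoidHom).comp
        ((QuotientGroup.mk' U).subgroupMap _))
        ((MulEquiv.subgroupCongr he).surjective.comp
          ((QuotientGroup.mk' U).subgroupMap_surjective _)) h1)
    set P : Subgroup G → Prop := fun N => ∃ h : N.Normal, ¬ PLengthLE p k (G ⧸ N) with hP
    have hPU : P (secCore p ⊥ U) := by
      refine ⟨inferInstance, fun hc => hl ?_⟩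
      refine CfsgLib.HallHigman.pLengthLE_succ_of_pGroup_kernel U pCore_isPGroup
        (pLengthLE_of_surjective_ker (QuotientGroup.mk' (secCore p ⊥ U))
          (QuotientGroup.mk'_surjective _) (QuotientGroup.mk' U) (QuotientGroup.mk'_surjective _)
          ?_ hc)
      rw [QuotientGroup.ker_mk', QuotientGroup.ker_mk']
      refine le_pCore inferInstance fun x => ?_
      obtain ⟨i, hi⟩ := exists_pow_mem_secKer x.2
      have hi' : (x : G) ^ p ^ i ∈ U := centralizer_pCore_le hG h0 (secKer_bot_le U hi)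
      obtain ⟨j, hj⟩ := pCore_isPGroup (p := p) (G := G) ⟨_, hi'⟩
      refine ⟨i + j, Subtype.ext ?_⟩
      have := congrArg Subtype.val hj
      simpa [← pow_mul, ← pow_add] using this
    obtain ⟨A, B, hA, hB, hAB, hBU, hmin, hPAB⟩ := exists_section (p := p) P
      (fun E₁ E₂ h1 h2 ⟨_, h⟩ => by
        by_contra hc
        simp only [hP, not_or, not_exists, not_not] at hc
        exact h (CfsgLib.HallHigman.pLengthLE_quotient_inf E₁ E₂ (hc.1 h1) (hc.2 h2)))
      (fun N N' hN hN' hle ⟨_, h⟩ => ⟨hN, fun hc => h (pLengthLE_of_surjective_ker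
        (QuotientGroup.mk' N) (QuotientGroup.mk'_surjective _) (QuotientGroup.mk' N')
        (QuotientGroup.mk'_surjective _) (by simpa using hle) hc)⟩)
      U pCore_isPGroup hPU
    obtain ⟨hN, hPAB⟩ := hPAB
    have hBp : IsPGroup p B := pCore_isPGroup.to_le hBU
    set E := secCore p A B with hE
    have hKE : secKer A B ≤ E := secKer_le_secCore A B
    have hUker : U ≤ secKer A B :=
      (pPrimePCore_le_secKer hBp pCore_isPGroup hAB hmin ⊤ le_top (sup_top_eq U)).1
    -- the criterion for quotients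
    have hquot : ∀ D : Subgroup G, ∀ [D.Normal], D ≤ secKer A B → B ⊓ D ≤ A → D ≠ ⊥ →
        HasPair p (k + 1) G := by
      intro D _ hD hD' hD1
      refine pair_of_surjective _ (QuotientGroup.mk'_surjective D)
        (ih _ (isPSolvable_quotient hG _) (by have := card_quotient_lt hD1; omega) ?_)
      refine not_pLengthLE_succ (QuotientGroup.lift D (QuotientGroup.mk' E) ?_)
        (fun y => ?_) ?_ hPAB
      · rw [QuotientGroup.ker_mk']; exact hD.trans hKE
      · obtain ⟨x, rfl⟩ := QuotientGroup.mk'_surjective E y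
        exact ⟨QuotientGroup.mk' D x, rfl⟩
      · intro z hz
        obtain ⟨g, rfl⟩ := QuotientGroup.mk'_surjective D z
        exact (QuotientGroup.eq_one_iff g).2
          (hKE (comap_pPrimePCore_le_secKer (U := U) hBp pCore_isPGroup hAB hmin hD' hz))
    by_cases hYB : B ⊔ X0 = ⊤
    swap
    · refine pair_of_subgroup (B ⊔ X0) (ih ↥(B ⊔ X0) (isPSolvable_subgroup hG _)
        (by have := card_lt_of_ne_top hYB; omega) ?_)
      have hsup : U ⊔ (B ⊔ X0) = ⊤ :=
        top_le_iff.1 (hY.ge.trans (sup_le le_sup_left (le_sup_right.trans le_sup_right)))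
      refine not_pLengthLE_succ ((QuotientGroup.mk' E).comp (B ⊔ X0).subtype) (fun z => ?_) ?_ hPAB
      · obtain ⟨g, rfl⟩ := QuotientGroup.mk'_surjective E z
        obtain ⟨u, hu, y, hy, rfl⟩ := mem_sup_of_normal_left.1 (hsup ▸ mem_top g)
        refine ⟨⟨y, hy⟩, ?_⟩
        have h1 : QuotientGroup.mk' E u = 1 := (QuotientGroup.eq_one_iff u).2 (hKE (hUker hu))
        rw [map_mul, h1, one_mul]
        rfl
      · intro z hz
        have := (pPrimePCore_le_secKer hBp pCore_isPGroup hAB hmin _ le_sup_left hsup).2 ⟨z, hz, rfl⟩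
        exact (QuotientGroup.eq_one_iff _).2 (hKE this)
    by_cases hA1 : A = ⊥
    swap
    · exact hquot A (hAB.trans (hBU.trans hUker)) inf_le_right hA1
    subst hA1
    have hUC : U ≤ centralizer (B : Set G) := hUker.trans (secKer_bot_le B)
    have hX0top : X0 = ⊤ → HasPair p (k + 1) G := by
      intro h
      refine ⟨a, b, fun hc => hl ?_⟩
      rw [← hX0, h] at hc
      exact CfsgLib.HallHigman.pLengthLE_of_equiv topEquiv hc
    by_cases hBX : B ⊓ X0 = ⊥
    swap
    · refine hX0top ?_
      have hn : (B ⊓ X0).Normal := by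
        rw [← normalizer_eq_top_iff, ← top_le_iff, ← hYB]
        refine sup_le ?_ (le_normalizer_iff.2 fun x hx y hy => mem_inf.2
          ⟨(inferInstance : B.Normal).conj_mem y hy.1 x, mul_mem (mul_mem hx hy.2) (inv_mem hx)⟩)
        intro w hw
        rw [mem_normalizer_iff]
        intro y
        have hBc : ∀ z ∈ B, w * z * w⁻¹ = z := fun z hz => by
          rw [← hUC (hBU hw) z hz, mul_inv_cancel_right]
        constructor
        · intro hy; rwa [hBc y hy.1]
        · intro hy
          have : y = w * y * w⁻¹ := by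
            have hyB : y ∈ B := by
              have := (inferInstance : B.Normal).conj_mem _ hy.1 w⁻¹
              simpa [mul_assoc] using this
            rw [hBc y hyB]
          rwa [this]
      rcases hmin _ hn bot_le inf_le_left with h | h
      · exact absurd h hBX
      · exact top_le_iff.1 (hYB.ge.trans (sup_le (h.ge.trans inf_le_right) le_rfl))
    by_cases hD : U ⊓ X0 = ⊥
    swap
    · haveI : (U ⊓ X0).Normal := by
        rw [← normalizer_eq_top_iff, ← top_le_iff, ← hYB]
        refine sup_le ?_ (le_normalizer_iff.2 fun x hx y hy => mem_inf.2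
          ⟨(inferInstance : U.Normal).conj_mem y hy.1 x, mul_mem (mul_mem hx hy.2) (inv_mem hx)⟩)
        intro w hw
        rw [mem_normalizer_iff]
        intro y
        have hUc : ∀ z ∈ U, w * z * w⁻¹ = z := fun z hz => by
          rw [hUC hz w hw, mul_inv_cancel_right]
        constructor
        · intro hy; rwa [hUc y hy.1]
        · intro hy
          have hyU : y ∈ U := by
            have := (inferInstance : U.Normal).conj_mem _ hy.1 w⁻¹
            simpa [mul_assoc] using this
          rwa [← hUc y hyU]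
      refine hquot (U ⊓ X0) (inf_le_left.trans hUker) ?_ hD
      rw [← hBX]
      exact inf_le_inf_left _ inf_le_right
    have hUB : U = B := by
      refine le_antisymm (fun x hx => ?_) hBU
      obtain ⟨w, hw, y, hy, rfl⟩ := mem_sup_of_normal_left.1 (hYB ▸ mem_top x)
      have : y ∈ U ⊓ X0 := ⟨by simpa using mul_mem (inv_mem (hBU hw)) hx, hy⟩
      rw [hD, mem_bot] at this
      subst this; simpa using hw
    by_cases hXt : X0 = ⊤
    · exact hX0top hXt
    have hBt : B ≠ ⊤ := by
      intro h
      refine hPAB (pLengthLE_zero_of_coprime ?_ k)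
      rw [← index_eq_card, index_eq_one.2 (top_le_iff.1 (((h.ge.trans hBU).trans hUker).trans hKE))]
      exact Nat.coprime_one_left _
    obtain ⟨S, hSn, hcop, hC, hBab⟩ := exists_complement_core hG h0 B hUB.symm.symm
      (fun M hM hle => hmin M hM bot_le hle) hBt
    have hBb : B ≠ ⊥ := by
      intro h
      exact hXt (by rw [← hYB, h, bot_sup_eq])
    obtain ⟨u, v, huv⟩ := exists_pair_eq_top' B S hBab hBb (fun M hM hle => hmin M hM bot_le hle)
      hcop hC hYB
    refine ⟨u, v, fun hc => hl ?_⟩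
    rw [huv] at hc
    exact CfsgLib.HallHigman.pLengthLE_of_equiv topEquiv hc

theorem hasPair_zero {G : Type u} [Group G] [Finite G] (h : ¬ PLengthLE p 0 G) :
    HasPair p 0 G := by
  have hdvd : p ∣ Nat.card G := by
    by_contra hd
    exact h (pLengthLE_zero_of_coprime (coprime_of_not_dvd_card hd) 0)
  obtain ⟨x, hx⟩ := exists_prime_orderOf_dvd_card' p hdvd
  refine ⟨x, x, fun hl => ?_⟩
  have h2 := coprime_of_pLengthLE_zero hl
  rw [Set.pair_eq_singleton, ← zpowers_eq_closure, Nat.card_zpowers, hx, Nat.coprime_self] at h2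
  exact (Fact.out : p.Prime).one_lt.ne' h2

end CfsgLib.Powell
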