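import Cfsg.Agent.Lib.Powell.Witness

/-!
In a simple group whose proper subgroups are `p`-soluble and which is not three-generated, some
element of order `p` is central modulo `O_{p'}` in every proper subgroup containing it.
-/

set_option autoImplicit false
set_option linter.unusedSectionVars false
set_option linter.style.haveILetI false

namespace CfsgLib.Powell

open Subgroup Cfsg CfsgLib.PCore
open scoped Pointwise

universe u

/-- The standing hypotheses. -/
structure Setup (p : ℕ) (G : Type u) [Group G] : Prop where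
  simple : IsSimpleGroup G
  nonab : ¬ IsMulCommutative G
  psol : ∀ H : Subgroup G, H ≠ ⊤ → IsPSolvable p H
  three : ∀ a b c : G, closure ({a, b, c} : Set G) ≠ ⊤

variable {p : ℕ} [hp : Fact p.Prime] {G : Type u} [Group G] [Finite G]

/-- A radical element. -/
def Rad (p : ℕ) (x : G) : Prop :=
  (∃ i : ℕ, x ^ p ^ i = 1) ∧ ∀ h : G, InU p (closure ({x, h} : Set G)) x

theorem Rad.inU (hs : Setup p G) {x : G} (hx : Rad p x) {K : Subgroup G} (hK : K ≠ ⊤) (hxK : x ∈ K) :
    InU p K x :=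
  inU_of_forall_pair (hs.psol K hK) hxK hx.1 fun k _ => hx.2 k

theorem Rad.conj {x : G} (hx : Rad p x) (g : G) : Rad p (g * x * g⁻¹) := by
  refine ⟨?_, fun h => ?_⟩
  · obtain ⟨i, hi⟩ := hx.1
    exact ⟨i, by rw [conj_pow, hi, mul_one, mul_inv_cancel]⟩
  · have := inU_map (MulAut.conj g).toMonoidHom (hx.2 (g⁻¹ * h * g))
    rw [closure_pair_map] at this
    simpa [mul_assoc] using this

theorem Rad.pow (hs : Setup p G) {x : G} (hx : Rad p x) (n : ℕ) : Rad p (x ^ n) := by
  refine ⟨?_, fun h => ?_⟩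
  · obtain ⟨i, hi⟩ := hx.1
    exact ⟨i, by rw [← pow_mul, mul_comm, pow_mul, hi, one_pow]⟩
  · have h1 := hx.inU hs (hs.three x x h)
      (subset_closure (Set.mem_insert x {x, h}))
    refine inU_mono ((closure_le _).2 ?_) (subset_closure (Set.mem_insert _ _)) (pow_mem h1 n)
    intro y hy
    rcases hy with e | e <;> rw [e]
    · exact pow_mem (subset_closure (Set.mem_insert x {x, h})) n
    · exact subset_closure (by simp)

theorem Rad.commutator (hs : Setup p G) {x r : G} (hx : Rad p x) (hr : Rad p r)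
    (hp' : ∃ i : ℕ, (x * r * x⁻¹ * r⁻¹) ^ p ^ i = 1) : Rad p (x * r * x⁻¹ * r⁻¹) := by
  refine ⟨hp', fun h => ?_⟩
  set L := closure ({x, r, h} : Set G) with hL
  have hxL : x ∈ L := subset_closure (by simp)
  have hrL : r ∈ L := subset_closure (by simp)
  have hhL : h ∈ L := subset_closure (by simp)
  have h1 := hx.inU hs (hs.three x r h) hxL
  have h2 := hr.inU hs (hs.three x r h) hrL
  refine inU_mono ((closure_le _).2 ?_) (subset_closure (Set.mem_insert _ _))
    (mul_mem (mul_mem (mul_mem h1 h2) (inv_mem h1)) (inv_mem h2))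
  intro y hy
  rcases hy with e | e <;> rw [e]
  · exact mul_mem (mul_mem (mul_mem hxL hrL) (inv_mem hxL)) (inv_mem hrL)
  · exact hhL

theorem Setup.not_isPGroup (hs : Setup p G) : ¬ IsPGroup p G := by
  intro h
  haveI := hs.simple
  haveI := h.isNilpotent
  haveI : Group.IsSolvable G := inferInstance
  exact hs.nonab ⟨⟨fun a b => IsSimpleGroup.comm_iff_isSolvable.2 inferInstance a b⟩⟩

theorem Setup.ne_top_of_isPGroup (hs : Setup p G) {H : Subgroup G} (h : IsPGroup p H) : H ≠ ⊤ := by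
  intro ht
  refine hs.not_isPGroup ?_
  subst ht
  exact h.of_surjective (topEquiv (G := G)).toMonoidHom (topEquiv (G := G)).surjective

theorem Setup.normalizer_ne_top (hs : Setup p G) {H : Subgroup G} (hp' : IsPGroup p H)
    (hne : H ≠ ⊥) : normalizer (H : Set G) ≠ ⊤ := by
  intro h
  haveI := hs.simple
  rcases (normalizer_eq_top_iff.1 h).eq_bot_or_eq_top with h' | h'
  · exact hne h'
  · exact hs.ne_top_of_isPGroup hp' h'

/-- A two-generated subgroup of largest `p`-length yields a radical element. -/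
theorem exists_rad (hs : Setup p G) (hdvd : p ∣ Nat.card G) : ∃ x : G, Rad p x ∧ x ≠ 1 := by
  classical
  have hex : ∃ k : ℕ, ∀ H : Subgroup G, H ≠ ⊤ → PLengthLE p k H := by
    have hall : ∀ H : Subgroup G, ∃ k, H ≠ ⊤ → PLengthLE p k H := fun H => by
      by_cases hH : H = ⊤
      · exact ⟨0, fun h => absurd hH h⟩
      · obtain ⟨k, hk⟩ := (exists_pLengthLE_iff (p := p) (G := H)).2 (hs.psol H hH)
        exact ⟨k, fun _ => hk⟩
    choose k hk using hall
    haveI := Fintype.ofFinite (Subgroup G)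
    exact ⟨Finset.univ.sup k, fun H hH =>
      CfsgLib.HallHigman.pLengthLE_mono (Finset.le_sup (Finset.mem_univ H)) (hk H hH)⟩
  obtain ⟨y, hy⟩ := exists_prime_orderOf_dvd_card' p hdvd
  have hcy : Nat.card (zpowers y) = p := by rw [Nat.card_zpowers, hy]
  have hyt : zpowers y ≠ ⊤ := hs.ne_top_of_isPGroup (IsPGroup.of_card (n := 1) (by rw [hcy, pow_one]))
  have hpos : Nat.find hex ≠ 0 := by
    intro h
    have h1 := coprime_of_pLengthLE_zero (h ▸ Nat.find_spec hex _ hyt)
    rw [hcy, Nat.coprime_self] at h1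
    exact hp.out.one_lt.ne' h1
  obtain ⟨m, hm⟩ := Nat.exists_eq_succ_of_ne_zero hpos
  obtain ⟨H, hH, hHm⟩ : ∃ H : Subgroup G, H ≠ ⊤ ∧ ¬ PLengthLE p m H := by
    have := Nat.find_min hex (m := m) (by omega)
    push Not at this
    exact this
  obtain ⟨a, b, hab⟩ := pair_of_subgroup H (hasPair_of_not_pLengthLE m H (hs.psol H hH) hHm)
  set J := closure ({a, b} : Set G) with hJ
  -- the residual of `J`
  let ι := {N : Subgroup J // ∃ _ : N.Normal, PLengthLE p m (J ⧸ N)}
  haveI : Fintype ι := Fintype.ofFinite _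
  set R := Finset.univ.inf (fun N : ι => (N : Subgroup J)) with hR
  haveI hRn : R.Normal := by
    rw [hR, Finset.inf_univ_eq_iInf]
    exact normal_iInf_normal fun N => N.2.1
  have hRl : PLengthLE p m (J ⧸ R) :=
    pLengthLE_of_iInf_le Finset.univ (fun N : ι => (N : Subgroup J)) (fun N => N.2.1)
      (fun N _ => N.2.2) R le_rfl
  have hpR : p ∣ Nat.card R := by
    by_contra h
    exact hab (CfsgLib.HallHigman.pLengthLE_of_coprime_kernel R (coprime_of_not_dvd_card h) hRl)
  obtain ⟨r, hr⟩ := exists_prime_orderOf_dvd_card' p hpR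
  set x : G := ((r : J) : G) with hx
  have hxo : orderOf x = p := by rw [hx, Subgroup.orderOf_coe, Subgroup.orderOf_coe, hr]
  refine ⟨x, ⟨⟨1, by rw [pow_one, ← hxo, pow_orderOf_eq_one]⟩, fun h => ?_⟩, fun h1 => ?_⟩
  swap
  · rw [h1, orderOf_one] at hxo
    exact hp.out.one_lt.ne hxo
  set L := closure ({a, b, h} : Set G) with hL
  have hJL : J ≤ L := closure_mono (by
    intro z hz
    rcases hz with e | e <;> rw [e] <;> simp)
  have hm' : PLengthLE p (m + 1) L := by
    have h0 := Nat.find_spec hex L (hs.three a b h)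
    rw [hm] at h0
    exact h0
  set N := (pPrimePCore p L).comap (inclusion hJL) with hN
  have hNl : PLengthLE p m (J ⧸ N) := by
    refine pLengthLE_of_injective (QuotientGroup.map N (pPrimePCore p L) (inclusion hJL) le_rfl)
      ?_ (pLengthLE_quotient_pPrimePCore hm')
    rw [← MonoidHom.ker_eq_bot_iff, eq_bot_iff]
    intro z hz
    obtain ⟨w, rfl⟩ := QuotientGroup.mk'_surjective N z
    rw [MonoidHom.mem_ker, QuotientGroup.mk'_apply, QuotientGroup.map_mk,
      QuotientGroup.eq_one_iff] at hz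
    exact mem_bot.2 ((QuotientGroup.eq_one_iff w).2 hz)
  have hrN : (r : J) ∈ N := (Finset.inf_le (f := fun N : ι => (N : Subgroup J))
    (Finset.mem_univ (⟨N, inferInstance, hNl⟩ : ι)) : R ≤ N) r.2
  have hxL : InU p L x := ⟨inclusion hJL (r : J), hrN, rfl⟩
  refine inU_mono ((closure_le _).2 ?_) (subset_closure (Set.mem_insert _ _)) hxL
  intro z hz
  rcases hz with e | e <;> rw [e]
  · exact hJL (r : J).2
  · exact subset_closure (by simp)

/-- An element of order `p` which commutes with the radical elements of one Sylow subgroup. -/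
theorem exists_central_rad (hs : Setup p G) (hdvd : p ∣ Nat.card G) :
    ∃ (x : G) (P : Sylow p G), orderOf x = p ∧ Rad p x ∧ x ∈ (P : Subgroup G) ∧
      ∀ r ∈ (P : Subgroup G), Rad p r → Commute x r := by
  classical
  obtain ⟨x0, hx0, hx01⟩ := exists_rad hs hdvd
  obtain ⟨P, hP⟩ := (isPGroup_zpowers hx0.1).exists_le_sylow
  haveI := P.isPGroup'.isNilpotent
  obtain ⟨c, hc⟩ := Subgroup.nilpotent_iff_lowerCentralSeries.mp
    (inferInstance : Group.IsNilpotent (P : Subgroup G))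
  have hexi : ∃ i : ℕ, ∀ y : (P : Subgroup G),
      y ∈ (⊤ : Subgroup (P : Subgroup G)).lowerCentralSeries i → Rad p (y : G) → y = 1 :=
    ⟨c, fun y hy _ => by rwa [hc, mem_bot] at hy⟩
  have hi0 : Nat.find hexi ≠ 0 := by
    intro h
    have := Nat.find_spec hexi
    rw [h] at this
    exact hx01 (congrArg Subtype.val (this ⟨x0, hP (mem_zpowers x0)⟩ (by simp) hx0))
  obtain ⟨i, hi⟩ := Nat.exists_eq_succ_of_ne_zero hi0
  have hmin := Nat.find_min hexi (m := i) (by omega)
  push Not at hmin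
  obtain ⟨y, hy, hyR, hy1⟩ := hmin
  have hcomm : ∀ r ∈ (P : Subgroup G), Rad p r → Commute (y : G) r := by
    intro r hr hrR
    have hmem : y * ⟨r, hr⟩ * y⁻¹ * (⟨r, hr⟩ : (P : Subgroup G))⁻¹ ∈
        (⊤ : Subgroup (P : Subgroup G)).lowerCentralSeries (i + 1) :=
      commutator_mem_commutator hy (mem_top _)
    have hspec := Nat.find_spec hexi
    rw [hi] at hspec
    have hp' : ∃ j : ℕ, ((y : G) * r * (y : G)⁻¹ * r⁻¹) ^ p ^ j = 1 := by
      obtain ⟨j, hj⟩ := P.isPGroup' (y * ⟨r, hr⟩ * y⁻¹ * (⟨r, hr⟩ : (P : Subgroup G))⁻¹)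
      exact ⟨j, by simpa using congrArg Subtype.val hj⟩
    have h1 := congrArg Subtype.val (hspec _ hmem (by simpa using hyR.commutator hs hrR hp'))
    simp only [Subgroup.coe_mul, InvMemClass.coe_inv, OneMemClass.coe_one] at h1
    exact mul_inv_eq_iff_eq_mul.1 (mul_inv_eq_one.1 h1)
  obtain ⟨e, he⟩ := IsPGroup.iff_orderOf.1 P.isPGroup' y
  have he' : orderOf (y : G) = p ^ e := by rw [Subgroup.orderOf_coe, he]
  have he0 : e ≠ 0 := fun h => hy1 (orderOf_eq_one_iff.1 (by rw [he, h, pow_zero]))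
  refine ⟨(y : G) ^ p ^ (e - 1), P, ?_, hyR.pow hs _, pow_mem y.2 _,
    fun r hr hrR => (hcomm r hr hrR).pow_left _⟩
  rw [orderOf_pow' _ (pow_ne_zero _ hp.out.ne_zero), he',
    Nat.gcd_eq_right (pow_dvd_pow p (Nat.sub_le e 1)), Nat.pow_div (Nat.sub_le e 1) hp.out.pos,
    Nat.sub_sub_self (Nat.one_le_iff_ne_zero.2 he0), pow_one]

/-! ### Every Sylow subgroup through `x` -/

theorem exists_normalizing_rad {T : Sylow p G} {H : Subgroup G} (hHT : H ≤ (T : Subgroup G))
    (h : ∃ r ∈ (T : Subgroup G), Rad p r ∧ r ∉ H) :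
    ∃ r ∈ (T : Subgroup G), Rad p r ∧ r ∉ H ∧
      r ∈ normalizer (closure {d | d ∈ H ∧ Rad p d} : Set G) := by
  by_contra hc
  push Not at hc
  set W := closure {d | d ∈ H ∧ Rad p d} with hW
  set N := (T : Subgroup G) ⊓ normalizer (W : Set G) with hN
  haveI := T.isPGroup'.isNilpotent
  have hset : ∀ d, d ∈ N → Rad p d → d ∈ H := fun d hd hdR => by
    by_contra hh
    exact hc d hd.1 hdR hh hd.2
  have hclosed : ∀ n ∈ (T : Subgroup G) ⊓ normalizer (N : Set G), n ∈ N := by
    intro n hn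
    refine mem_inf.2 ⟨hn.1, ?_⟩
    have key : ∀ n', n' ∈ normalizer (N : Set G) → ∀ d, d ∈ H → Rad p d → n' * d * n'⁻¹ ∈ W := by
      intro n' hn' d hd hdR
      have hdN : d ∈ N := mem_inf.2 ⟨hHT hd, le_normalizer (subset_closure ⟨hd, hdR⟩)⟩
      have h1 := (mem_normalizer_iff.1 hn' d).1 hdN
      exact subset_closure ⟨hset _ h1 (hdR.conj n'), hdR.conj n'⟩
    rw [← CfsgLib.Techniques.map_conj_eq_self_iff]
    refine eq_of_le_of_card_ge ?_ (CfsgLib.Techniques.card_map_conj W n).ge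
    rw [hW, MonoidHom.map_closure, closure_le]
    rintro _ ⟨d, ⟨hd, hdR⟩, rfl⟩
    exact key n hn.2 d hd hdR
  have htop : N.subgroupOf (T : Subgroup G) = ⊤ := by
    by_contra hne
    have hlt := (Group.normalizerCondition_of_isNilpotent (G := (T : Subgroup G))) _
      (Ne.lt_top hne)
    obtain ⟨z, hz, hz'⟩ := SetLike.exists_of_lt hlt
    refine hz' (hclosed (z : G) (mem_inf.2 ⟨z.2, ?_⟩))
    rw [mem_normalizer_iff]
    intro w
    constructor
    · intro hw
      exact ((mem_normalizer_iff.1 hz ⟨w, hw.1⟩).1 hw)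
    · intro hw
      have hwT : w ∈ (T : Subgroup G) := by
        have := mul_mem (mul_mem (inv_mem z.2) hw.1) z.2
        simpa [mul_assoc] using this
      exact ((mem_normalizer_iff.1 hz ⟨w, hwT⟩).2 hw)
  obtain ⟨r, hr, hrR, hrH⟩ := h
  exact hrH (hset r (subgroupOf_eq_top.1 htop hr) hrR)

/-- Two Sylow subgroups of `L` meet `O_{p',p}(L)` in subgroups conjugate under `O_{p'}(L)`. -/
theorem exists_core_conj {L : Type*} [Group L] [Finite L] (R R₂ : Sylow p L) :
    ∃ d ∈ pPrimeCore p L, ∀ z ∈ pPrimePCore p L, z ∈ (R₂ : Subgroup L) →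
      d⁻¹ * z * d ∈ (R : Subgroup L) := by
  obtain ⟨g, hg⟩ := MulAction.exists_smul_eq L R R₂
  obtain ⟨d, hd, n, hn, rfl⟩ := CfsgLib.Techniques.exists_pPrimeCore_mul_normalizer R g
  refine ⟨d, hd, fun z hzU hz => ?_⟩
  rw [← hg, Sylow.coe_subgroup_smul, mem_pointwise_smul_iff_inv_smul_mem] at hz
  have h1 : n⁻¹ * (d⁻¹ * z * d) * n ∈ (R : Subgroup L) := by
    simpa [MulAut.smul_def, mul_assoc] using hz
  have h2 : n⁻¹ * (d⁻¹ * z * d) * n ∈ pPrimePCore p L := by
    have e1 := (inferInstance : (pPrimePCore p L).Normal).conj_mem z hzU d⁻¹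
    have e2 := (inferInstance : (pPrimePCore p L).Normal).conj_mem _ e1 n⁻¹
    simpa [mul_assoc] using e2
  have h3 := (mem_normalizer_iff.1 hn _).1 (mem_inf.2 ⟨h1, h2⟩)
  have e : n * (n⁻¹ * (d⁻¹ * z * d) * n) * n⁻¹ = d⁻¹ * z * d := by group
  rw [e] at h3
  exact h3.1

/-- The commutation property at a Sylow subgroup. -/
def GoodAt (p : ℕ) (x : G) (S : Sylow p G) : Prop :=
  ∀ r ∈ (S : Subgroup G), Rad p r → Commute x r

theorem goodAt_propagate (hs : Setup p G) {x : G} (hxo : orderOf x = p) (hxR : Rad p x) :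
    ∀ (n : ℕ) (S T : Sylow p G), x ∈ (S : Subgroup G) → x ∈ (T : Subgroup G) → GoodAt p x T →
      Nat.card G ≤ n + Nat.card {d : G // d ∈ (S : Subgroup G) ⊓ T ∧ Rad p d} → GoodAt p x S := by
  intro n
  induction n using Nat.strong_induction_on with
  | _ n ih =>
    intro S T hxS hxT hT hn
    by_cases hcase : ∀ r ∈ (T : Subgroup G), Rad p r → r ∈ (S : Subgroup G)
    · have hsub : {r : G | r ∈ (T : Subgroup G) ∧ Rad p r} ⊆ {r | r ∈ (S : Subgroup G) ∧ Rad p r} :=
        fun r hr => ⟨hcase r hr.1 hr.2, hr.2⟩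
      obtain ⟨g, hg⟩ := MulAction.exists_smul_eq G T S
      have himg : (fun r => g * r * g⁻¹) '' {r : G | r ∈ (T : Subgroup G) ∧ Rad p r} =
          {r | r ∈ (S : Subgroup G) ∧ Rad p r} := by
        ext r
        constructor
        · rintro ⟨w, ⟨hw, hwR⟩, rfl⟩
          refine ⟨?_, hwR.conj g⟩
          rw [← hg, Sylow.coe_subgroup_smul]
          exact ⟨w, hw, rfl⟩
        · rintro ⟨hr, hrR⟩
          rw [← hg, Sylow.coe_subgroup_smul] at hr
          obtain ⟨w, hw, rfl⟩ := hr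
          refine ⟨w, ⟨hw, ?_⟩, rfl⟩
          have := hrR.conj g⁻¹
          simpa [MulAut.smul_def, mul_assoc] using this
      have hcard : {r : G | r ∈ (S : Subgroup G) ∧ Rad p r}.ncard ≤
          {r : G | r ∈ (T : Subgroup G) ∧ Rad p r}.ncard := by
        rw [← himg]; exact Set.ncard_image_le (Set.toFinite _)
      have heq := Set.eq_of_subset_of_ncard_le hsub hcard (Set.toFinite _)
      intro r hr hrR
      have h1 : r ∈ {r : G | r ∈ (T : Subgroup G) ∧ Rad p r} := heq ▸ ⟨hr, hrR⟩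
      exact hT r h1.1 hrR
    push Not at hcase
    by_cases hcase' : ∀ s ∈ (S : Subgroup G), Rad p s → s ∈ (T : Subgroup G)
    · exact fun r hr hrR => hT r (hcase' r hr hrR) hrR
    push Not at hcase'
    obtain ⟨r0, hr0T, hr0R, hr0S⟩ := hcase
    obtain ⟨s0, hs0S, hs0R, hs0T⟩ := hcase'
    set H := (S : Subgroup G) ⊓ (T : Subgroup G) with hH
    obtain ⟨r, hrT, hrR, hrH, hrN⟩ := exists_normalizing_rad (T := T) (H := H) inf_le_right
      ⟨r0, hr0T, hr0R, fun h => hr0S h.1⟩
    obtain ⟨s, hsS, hsR, hsH, hsN⟩ := exists_normalizing_rad (T := S) (H := H) inf_le_left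
      ⟨s0, hs0S, hs0R, fun h => hs0T h.2⟩
    set W := closure {d | d ∈ H ∧ Rad p d} with hW
    have hWT : W ≤ (T : Subgroup G) := (closure_le _).2 fun d hd => hd.1.2
    have hxW : x ∈ W := subset_closure ⟨⟨hxS, hxT⟩, hxR⟩
    have hWne : W ≠ ⊥ := by
      intro h
      rw [h, mem_bot] at hxW
      rw [hxW, orderOf_one] at hxo
      exact hp.out.one_lt.ne hxo
    set L := normalizer (W : Set G) with hLdef
    have hL : L ≠ ⊤ := hs.normalizer_ne_top (T.isPGroup'.to_le hWT) hWne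
    have hWL : W ≤ L := le_normalizer
    have hOC : ∀ o ∈ pPrimeCore p L, ∀ w ∈ W, Commute (o : G) w := by
      intro o ho w hw
      haveI : (W.subgroupOf L).Normal := normal_in_normalizer
      have hWp : IsPGroup p (W.subgroupOf L) :=
        (T.isPGroup'.to_le hWT).comap_of_injective _ L.subtype_injective
      exact (congrArg Subtype.val (pPrimeCore_le_centralizer_pCore ho ⟨w, hWL hw⟩
        (le_pCore inferInstance hWp hw))).symm
    -- Sylow subgroups of `L` from both sides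
    obtain ⟨R, hR⟩ := ((T.isPGroup'.to_le (inf_le_left : (T : Subgroup G) ⊓ L ≤ T)).comap_of_injective
      L.subtype L.subtype_injective).exists_le_sylow
    obtain ⟨R₂, hR₂⟩ := ((S.isPGroup'.to_le (inf_le_left : (S : Subgroup G) ⊓ L ≤ S)).comap_of_injective
      L.subtype L.subtype_injective).exists_le_sylow
    obtain ⟨d, hd, hconj⟩ := exists_core_conj R R₂
    obtain ⟨T₁, hT₁⟩ := (R.isPGroup'.map L.subtype).exists_le_sylow
    have hHcard : ∀ (S' T' : Sylow p G) (z : G), Rad p z → z ∈ (S' : Subgroup G) → z ∈ (T' : Subgroup G) →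
        z ∉ H → (∀ w ∈ H, Rad p w → w ∈ (S' : Subgroup G) ∧ w ∈ (T' : Subgroup G)) →
        Nat.card {d : G // d ∈ H ∧ Rad p d} <
          Nat.card {d : G // d ∈ (S' : Subgroup G) ⊓ T' ∧ Rad p d} := by
      intro S' T' z hzR hzS hzT hzH hall
      have hlt : {d : G | d ∈ H ∧ Rad p d}.ncard <
          {d : G | d ∈ (S' : Subgroup G) ⊓ T' ∧ Rad p d}.ncard := by
        refine Set.ncard_lt_ncard ⟨fun w hw => ⟨mem_inf.2 (hall w hw.1 hw.2), hw.2⟩, fun h => hzH ?_⟩
          (Set.toFinite _)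
        exact (h ⟨mem_inf.2 ⟨hzS, hzT⟩, hzR⟩).1
      rwa [← Nat.card_coe_set_eq, ← Nat.card_coe_set_eq] at hlt
    have hle : ∀ (S' T' : Sylow p G),
        Nat.card {d : G // d ∈ (S' : Subgroup G) ⊓ T' ∧ Rad p d} ≤ Nat.card G := fun S' T' =>
      Nat.card_le_card_of_injective _ Subtype.val_injective
    have hinR : ∀ z, z ∈ (T : Subgroup G) → z ∈ L → z ∈ (T₁ : Subgroup G) := fun z hzT hzL =>
      hT₁ ⟨⟨z, hzL⟩, hR (mem_inf.2 ⟨hzT, hzL⟩), rfl⟩
    have hWmem : ∀ w ∈ H, Rad p w → w ∈ W := fun w hw hwR => subset_closure ⟨hw, hwR⟩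
    have hxT₁ : x ∈ (T₁ : Subgroup G) := hinR x hxT (hWL hxW)
    have hT₁good : GoodAt p x T₁ := by
      have hlt := hHcard T₁ T r hrR (hinR r hrT hrN) hrT hrH
        (fun w hw hwR => ⟨hinR w hw.2 (hWL (hWmem w hw hwR)), hw.2⟩)
      have := hle T₁ T
      exact ih (Nat.card G - Nat.card {d : G // d ∈ (T₁ : Subgroup G) ⊓ T ∧ Rad p d}) (by omega)
        T₁ T hxT₁ hxT hT (by omega)
    set T₂ := (d : G) • T₁ with hT₂
    have hmemT₂ : ∀ z : G, z ∈ (T₂ : Subgroup G) ↔ (d : G)⁻¹ * z * (d : G) ∈ (T₁ : Subgroup G) := by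
      intro z
      rw [hT₂, Sylow.coe_subgroup_smul, mem_pointwise_smul_iff_inv_smul_mem]
      simp [MulAut.smul_def]
    have hdx : Commute (d : G) x := hOC d hd x hxW
    have hxT₂ : x ∈ (T₂ : Subgroup G) := by
      rw [hmemT₂, mul_assoc, ← hdx.eq, inv_mul_cancel_left]
      exact hxT₁
    have hT₂good : GoodAt p x T₂ := by
      intro z hz hzR
      have h2 := hT₁good _ ((hmemT₂ z).1 hz) (by simpa using hzR.conj (d : G)⁻¹)
      have h3 := h2.map (MulAut.conj (d : G)).toMonoidHom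
      simp only [MulEquiv.coe_toMonoidHom, MulAut.conj_apply] at h3
      rw [hdx.eq, mul_inv_cancel_right] at h3
      simpa [mul_assoc] using h3
    have hinT₂ : ∀ z, Rad p z → z ∈ (S : Subgroup G) → z ∈ L → z ∈ (T₂ : Subgroup G) := by
      intro z hzR hzS hzL
      rw [hmemT₂]
      refine hT₁ ⟨d⁻¹ * ⟨z, hzL⟩ * d, hconj _ ?_ (hR₂ (mem_inf.2 ⟨hzS, hzL⟩)), rfl⟩
      exact (inU_iff hzL).1 (hzR.inU hs hL hzL)
    have hlt := hHcard S T₂ s hsR hsS (hinT₂ s hsR hsS hsN) hsH
      (fun w hw hwR => ⟨hw.1, hinT₂ w hwR hw.1 (hWL (hWmem w hw hwR))⟩)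
    have := hle S T₂
    exact ih (Nat.card G - Nat.card {d : G // d ∈ (S : Subgroup G) ⊓ T₂ ∧ Rad p d}) (by omega)
      S T₂ hxS hxT₂ hT₂good (by omega)

/-- Conjugates of `x` commute modulo `O_{p'}` in every proper subgroup. -/
theorem conj_commute_core (hs : Setup p G) {x : G} {P : Sylow p G} (hxo : orderOf x = p)
    (hxR : Rad p x) (hxP : x ∈ (P : Subgroup G)) (hgood : GoodAt p x P) {K : Subgroup G}
    (hK : K ≠ ⊤) (hxK : x ∈ K) {l : G} (hl : l ∈ K) :
    Commute (QuotientGroup.mk' (pPrimeCore p K) ⟨x, hxK⟩)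
      (QuotientGroup.mk' (pPrimeCore p K) ⟨l * x * l⁻¹, mul_mem (mul_mem hl hxK) (inv_mem hl)⟩) := by
  set y : K := ⟨l * x * l⁻¹, mul_mem (mul_mem hl hxK) (inv_mem hl)⟩ with hy
  have hyU : y ∈ pPrimePCore p K := (inU_iff y.2).1 ((hxR.conj l).inU hs hK y.2)
  have hpx : IsPGroup p (zpowers (⟨x, hxK⟩ : K)) := isPGroup_zpowers
    ⟨1, Subtype.ext (by simp [← hxo, pow_orderOf_eq_one])⟩
  have hpy : IsPGroup p (zpowers y) := isPGroup_zpowers
    ⟨1, Subtype.ext (by simp [hy, conj_pow, ← hxo, pow_orderOf_eq_one])⟩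
  obtain ⟨R, hR⟩ := hpx.exists_le_sylow
  obtain ⟨R₂, hR₂⟩ := hpy.exists_le_sylow
  obtain ⟨d, hd, hconj⟩ := exists_core_conj R R₂
  have hyR := hconj y hyU (hR₂ (mem_zpowers _))
  obtain ⟨S, hS⟩ := (R.isPGroup'.map K.subtype).exists_le_sylow
  have hxS : x ∈ (S : Subgroup G) := hS ⟨⟨x, hxK⟩, hR (mem_zpowers _), rfl⟩
  have hSgood : GoodAt p x S :=
    goodAt_propagate hs hxo hxR (Nat.card G) S P hxS hxP hgood (Nat.le_add_right _ _)
  have h1 : Commute x ((d⁻¹ * y * d : K) : G) :=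
    hSgood _ (hS ⟨_, hyR, rfl⟩) (by simpa [hy, mul_assoc] using (hxR.conj l).conj (d : G)⁻¹)
  have h2 : Commute (⟨x, hxK⟩ : K) (d⁻¹ * y * d) := Subtype.ext h1
  have h3 := h2.map (QuotientGroup.mk' (pPrimeCore p K))
  have hd1 : QuotientGroup.mk' (pPrimeCore p K) d = 1 := (QuotientGroup.eq_one_iff d).2 hd
  rwa [map_mul, map_mul, map_inv, hd1, inv_one, one_mul, mul_one] at h3

/-! ### Isolation -/

theorem mem_core_of_regular {K : Subgroup G} {a : G} (ha : InU p K a) (h : ¬ p ∣ orderOf a) :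
    a ∈ (pPrimeCore p K).map K.subtype := by
  obtain ⟨b, hb, rfl⟩ := ha
  refine ⟨b, ?_, rfl⟩
  obtain ⟨i, hi⟩ := exists_pow_mem_core hb
  refine mem_of_coprime_pows (m := p ^ i) (n := orderOf b) ?_ hi
    (by rw [pow_orderOf_eq_one]; exact one_mem _)
  refine Nat.Coprime.pow_left i (hp.out.coprime_iff_not_dvd.2 ?_)
  rwa [← Subgroup.orderOf_coe]

theorem regular_of_mem_core {K : Subgroup G} {a : G} (h : a ∈ (pPrimeCore p K).map K.subtype) :
    ¬ p ∣ orderOf a := by
  obtain ⟨b, hb, rfl⟩ := h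
  intro hd
  rw [coe_subtype, Subgroup.orderOf_coe] at hd
  exact not_dvd_card_pPrimeCore (hd.trans (Subgroup.orderOf_dvd_natCard _ hb))

/-- The relation between conjugates. -/
def Near (p : ℕ) (a b : G) : Prop := ¬ p ∣ orderOf (a⁻¹ * b)

theorem near_conj {a b : G} (h : Near p a b) (g : G) : Near p (g * a * g⁻¹) (g * b * g⁻¹) := by
  have e : (g * a * g⁻¹)⁻¹ * (g * b * g⁻¹) = MulAut.conj g (a⁻¹ * b) := by simp [mul_assoc]
  rw [Near, e, MulEquiv.orderOf_eq]
  exact h

/-- Some element of order `p` is central modulo `O_{p'}` in every proper subgroup containing it. -/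
theorem exists_isolated (hs : Setup p G) (hdvd : p ∣ Nat.card G) :
    ∃ x : G, orderOf x = p ∧ ∀ K : Subgroup G, K ≠ ⊤ → x ∈ K → ∀ g ∈ K,
      g * x * g⁻¹ * x⁻¹ ∈ (pPrimeCore p K).map K.subtype := by
  obtain ⟨x, P, hxo, hxR, hxP, hgood⟩ := exists_central_rad hs hdvd
  refine ⟨x, hxo, ?_⟩
  have hU : ∀ {K : Subgroup G}, K ≠ ⊤ → ∀ {g : G}, g * x * g⁻¹ ∈ K → InU p K (g * x * g⁻¹) :=
    fun hK _ hg => (hxR.conj _).inU hs hK hg
  have htrans0 : ∀ g h : G, Near p x (g * x * g⁻¹) → Near p (g * x * g⁻¹) (h * x * h⁻¹) →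
      Near p x (h * x * h⁻¹) := by
    intro g h h1 h2
    set L := closure ({x, g, h} : Set G) with hL
    have hxL : x ∈ L := subset_closure (by simp)
    have hgL : g ∈ L := subset_closure (by simp)
    have hhL : h ∈ L := subset_closure (by simp)
    have u0 := hxR.inU hs (hs.three x g h) hxL
    have u1 := hU (hs.three x g h) (mul_mem (mul_mem hgL hxL) (inv_mem hgL))
    have u2 := hU (hs.three x g h) (mul_mem (mul_mem hhL hxL) (inv_mem hhL))
    have m1 := mem_core_of_regular (mul_mem (inv_mem u0) u1 : InU p L _) h1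
    have m2 := mem_core_of_regular (mul_mem (inv_mem u1) u2 : InU p L _) h2
    have m := mul_mem m1 m2
    rw [mul_assoc, mul_inv_cancel_left] at m
    exact regular_of_mem_core m
  have htrans : ∀ f g h : G, Near p (f * x * f⁻¹) (g * x * g⁻¹) →
      Near p (g * x * g⁻¹) (h * x * h⁻¹) → Near p (f * x * f⁻¹) (h * x * h⁻¹) := by
    intro f g h h1 h2
    have a1 := near_conj h1 f⁻¹
    have a2 := near_conj h2 f⁻¹
    have key : Near p x ((f⁻¹ * h) * x * (f⁻¹ * h)⁻¹) := by
      refine htrans0 (f⁻¹ * g) (f⁻¹ * h) ?_ ?_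
      · convert a1 using 1 <;> group
      · convert a2 using 1 <;> group
    convert near_conj key f using 1 <;> group
  have hsymm : ∀ a b : G, Near p a b → Near p b a := by
    intro a b h
    rw [Near, show b⁻¹ * a = (a⁻¹ * b)⁻¹ by group, orderOf_inv]
    exact h
  -- a conjugate fixes the class of `x`
  have hfix : ∀ k : G, Near p x ((k * x * k⁻¹) * x * (k * x * k⁻¹)⁻¹) := by
    intro k
    set L := closure ({x, x, k} : Set G) with hL
    have hxL : x ∈ L := subset_closure (by simp)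
    have hkL : k ∈ L := subset_closure (by simp)
    have hc := conj_commute_core hs hxo hxR hxP hgood (hs.three x x k) hxL hkL
    have hcL := mul_mem (mul_mem hkL hxL) (inv_mem hkL)
    refine regular_of_mem_core (K := L)
      ⟨⟨x, hxL⟩⁻¹ * (⟨_, hcL⟩ * ⟨x, hxL⟩ * (⟨_, hcL⟩ : L)⁻¹), ?_, rfl⟩
    rw [SetLike.mem_coe, ← QuotientGroup.eq_one_iff, ← QuotientGroup.mk'_apply, map_mul, map_mul, map_mul, map_inv,
      map_inv, ← hc.eq, mul_inv_cancel_right, inv_mul_cancel]
  let M : Subgroup G :=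
    { carrier := {g | ∀ f : G, Near p (f * x * f⁻¹) ((g * f) * x * (g * f)⁻¹)}
      one_mem' := fun f => by
        rw [one_mul, Near, inv_mul_cancel, orderOf_one]
        exact hp.out.not_dvd_one
      mul_mem' := fun {a b} ha hb f => by
        rw [mul_assoc a b f]
        exact htrans f (b * f) (a * (b * f)) (hb f) (ha (b * f))
      inv_mem' := fun {a} ha f => by
        have h := ha (a⁻¹ * f)
        rw [mul_inv_cancel_left] at h
        exact hsymm _ _ h }
  have hclass : ∀ k : G, k * x * k⁻¹ ∈ M := by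
    intro k f
    have h := near_conj (hfix (f⁻¹ * k)) f
    convert h using 1
    group
  have hM : M = ⊤ := by
    haveI := hs.simple
    have hle : normalClosure ({x} : Set G) ≤ M := by
      rw [normalClosure, closure_le]
      intro z hz
      obtain ⟨y, hy, hc⟩ := Group.mem_conjugatesOfSet_iff.1 hz
      rw [Set.mem_singleton_iff] at hy
      subst hy
      obtain ⟨k, rfl⟩ := isConj_iff.1 hc
      exact hclass k
    rcases (normalClosure_normal (s := ({x} : Set G))).eq_bot_or_eq_top with h | h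
    · exfalso
      have : x ∈ normalClosure ({x} : Set G) := subset_normalClosure rfl
      rw [h, mem_bot] at this
      rw [this, orderOf_one] at hxo
      exact hp.out.one_lt.ne hxo
    · exact top_le_iff.1 (h ▸ hle)
  intro K hK hxK g hgK
  have hn : Near p x (g * x * g⁻¹) := by
    have h : g ∈ M := hM ▸ mem_top g
    have := h 1
    simpa using this
  have u0 := hxR.inU hs hK hxK
  have u1 := hU hK (mul_mem (mul_mem hgK hxK) (inv_mem hgK))
  obtain ⟨o, ho, hoe⟩ := mem_core_of_regular (mul_mem (inv_mem u0) u1 : InU p K _) hn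
  refine ⟨⟨x, hxK⟩ * o * ⟨x, hxK⟩⁻¹, (inferInstance : (pPrimeCore p K).Normal).conj_mem o ho _, ?_⟩
  simp only [coe_subtype, Subgroup.coe_mul, InvMemClass.coe_inv] at hoe ⊢
  rw [hoe]
  group

end CfsgLib.Powell
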