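import Cfsg.Agent.Lib.Powell.Core

/-!
An element outside `O_{p',p}` of a `p`-soluble group is outside it in some subgroup generated by
it and one other element.
-/

set_option autoImplicit false
set_option linter.unusedSectionVars false
set_option linter.style.haveILetI false

namespace CfsgLib.Powell

open Subgroup Cfsg CfsgLib.PCore

universe u

variable {p : ℕ} [hp : Fact p.Prime]

/-- `x` lies in `O_{p',p}` of the subgroup `K`. -/
def InU {G : Type*} [Group G] (p : ℕ) (K : Subgroup G) (x : G) : Prop :=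
  x ∈ (pPrimePCore p K).map K.subtype

theorem InU.mem {G : Type*} [Group G] {K : Subgroup G} {x : G} (h : InU p K x) : x ∈ K :=
  map_subtype_le _ h

theorem inU_iff {G : Type*} [Group G] {K : Subgroup G} {x : G} (hx : x ∈ K) :
    InU p K x ↔ (⟨x, hx⟩ : K) ∈ pPrimePCore p K := by
  rw [InU, mem_map]
  constructor
  · rintro ⟨y, hy, rfl⟩
    exact hy
  · exact fun h => ⟨⟨x, hx⟩, h, rfl⟩

theorem inU_mono {G : Type*} [Group G] [Finite G] {K L : Subgroup G} (hKL : K ≤ L) {x : G}
    (hx : x ∈ K) (h : InU p L x) : InU p K x := by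
  rw [inU_iff hx]
  rw [inU_iff (hKL hx)] at h
  exact comap_pPrimePCore_le (inclusion hKL) (inclusion_injective hKL) h

theorem inU_map {G H : Type*} [Group G] [Finite G] [Group H] [Finite H] (f : G →* H)
    {K : Subgroup G} {x : G} (h : InU p K x) : InU p (K.map f) (f x) := by
  obtain ⟨y, hy, rfl⟩ := h
  exact ⟨f.subgroupMap K y, map_pPrimePCore_le _ (f.subgroupMap_surjective K) ⟨y, hy, rfl⟩, rfl⟩

theorem inU_top {G : Type*} [Group G] [Finite G] {x : G} :
    InU p (⊤ : Subgroup G) x ↔ x ∈ pPrimePCore p G := by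
  constructor
  · rintro ⟨y, hy, rfl⟩
    exact map_pPrimePCore_le (topEquiv (G := G)).toMonoidHom (topEquiv (G := G)).surjective
      ⟨y, hy, rfl⟩
  · intro h
    exact ⟨topEquiv.symm x,
      map_pPrimePCore_le (topEquiv (G := G)).symm.toMonoidHom
        (topEquiv (G := G)).symm.surjective ⟨x, h, rfl⟩, rfl⟩

/-- The witness property. -/
def Wit (p : ℕ) {G : Type u} [Group G] (x : G) : Prop :=
  ∃ h : G, ¬ InU p (closure ({x, h} : Set G)) x

theorem wit_of_surjective {G H : Type u} [Group G] [Finite G] [Group H] [Finite H] (f : G →* H)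
    (hf : Function.Surjective f) {x : G} : Wit p (f x) → Wit p x := by
  rintro ⟨h, hh⟩
  obtain ⟨h, rfl⟩ := hf h
  refine ⟨h, fun hc => hh ?_⟩
  rw [← closure_pair_map]
  exact inU_map f hc

theorem wit_of_subgroup {G : Type u} [Group G] [Finite G] {K : Subgroup G} {x : K} :
    Wit p x → Wit p (x : G) := by
  rintro ⟨h, hh⟩
  refine ⟨h, fun hc => hh ?_⟩
  have e := closure_pair_map K.subtype x h
  have hx : x ∈ closure ({x, h} : Set K) := subset_closure (Set.mem_insert x {h})
  rw [inU_iff hx]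
  set φ := (MulEquiv.subgroupCongr e).toMonoidHom.comp (K.subtype.subgroupMap _) with hφ
  refine comap_pPrimePCore_le φ (fun a b hab => ?_) ?_
  · exact Subtype.ext (Subtype.ext (congrArg (fun z : ↥(closure ({(x : G), (h : G)} : Set G)) =>
      (z : G)) hab))
  · rw [mem_comap]
    exact (inU_iff (subset_closure (Set.mem_insert _ _))).1 hc

theorem wit_aux : ∀ (n : ℕ) (L : Type u) [Group L] [Finite L], IsPSolvable p L → Nat.card L ≤ n →
    ∀ x : L, (∃ i : ℕ, x ^ p ^ i = 1) → x ∉ pPrimePCore p L → Wit p x := by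
  intro n
  induction n with
  | zero => intro L _ _ _ h; exact absurd h (not_le.2 Nat.card_pos)
  | succ n ih =>
    intro L _ _ hL hn x hxp hx
    have hmapp : ∀ {H : Type u} [Group H] (f : L →* H), ∃ i : ℕ, f x ^ p ^ i = 1 := by
      intro H _ f
      obtain ⟨i, hi⟩ := hxp
      exact ⟨i, by rw [← map_pow, hi, map_one]⟩
    by_cases h0 : pPrimeCore p L = ⊥
    swap
    · refine wit_of_surjective _ (QuotientGroup.mk'_surjective (pPrimeCore p L))
        (ih _ (isPSolvable_quotient hL _) (by have := card_quotient_lt h0; omega) _ (hmapp _) ?_)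
      intro h
      rw [pPrimePCore_eq_pCore pPrimeCore_quotient_pPrimeCore] at h
      exact hx h
    set U := pCore p L with hU
    have hxU : x ∉ U := fun h => hx (pCore_le_pPrimePCore h)
    -- a `p'`-element of `L ⧸ U` not commuting with `x`
    set f := QuotientGroup.mk' U with hf
    set Qb := pPrimeCore p (L ⧸ U) with hQb
    have hOp : pCore p (L ⧸ U) = ⊥ := pCore_quotient_pCore
    obtain ⟨q, hq, hqx⟩ : ∃ q ∈ Qb, q * f x ≠ f x * q := by
      by_contra hc
      push Not at hc
      have h1 : f x ∈ Qb :=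
        CfsgLib.DualHallHigman.centralizer_pPrimeCore_le (isPSolvable_quotient hL U) hOp
          (fun q hq => hc q hq)
      have h2 : f x ∈ zpowers (f x) ⊓ Qb := ⟨mem_zpowers _, h1⟩
      rw [inf_eq_bot_of_isPGroup_coprime (isPGroup_zpowers (hmapp f)) pPrimeCore_coprime,
        mem_bot] at h2
      exact hxU ((QuotientGroup.eq_one_iff x).1 h2)
    obtain ⟨b, rfl⟩ := QuotientGroup.mk'_surjective U q
    set c := b * x * b⁻¹ * x⁻¹ with hc
    have hcQ : f c ∈ Qb := by
      rw [hc]
      simp only [map_mul, map_inv]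
      rw [mul_assoc, mul_assoc, ← mul_assoc (f x)]
      exact mul_mem hq ((inferInstance : Qb.Normal).conj_mem _ (inv_mem hq) (f x))
    have hc1 : f c ≠ 1 := by
      intro h
      refine hqx ?_
      rw [hc] at h
      simp only [map_mul, map_inv] at h
      exact mul_inv_eq_iff_eq_mul.1 (mul_inv_eq_one.1 h)
    set X0 := closure ({x, b} : Set L) with hX0
    have hxX0 : x ∈ X0 := subset_closure (Set.mem_insert x {b})
    have hbX0 : b ∈ X0 := subset_closure (Set.mem_insert_of_mem x rfl)
    by_cases hY : U ⊔ X0 = ⊤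
    swap
    · refine wit_of_subgroup (x := (⟨x, mem_sup_right hxX0⟩ : ↥(U ⊔ X0)))
        (ih _ (isPSolvable_subgroup hL _) (by have := card_lt_of_ne_top hY; omega) _ ?_ ?_)
      · obtain ⟨i, hi⟩ := hxp
        exact ⟨i, Subtype.ext hi⟩
      · intro h
        rw [pPrimePCore_eq_pCore (pPrimeCore_subgroup_eq_bot hL h0 le_sup_left)] at h
        have hp' : f c ∈ (pCore p ↥(U ⊔ X0)).map (f.comp (U ⊔ X0).subtype) := by
          refine ⟨⟨b, mem_sup_right hbX0⟩ * ⟨x, mem_sup_right hxX0⟩ * ⟨b, mem_sup_right hbX0⟩⁻¹ *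
            ⟨x, mem_sup_right hxX0⟩⁻¹, ?_, rfl⟩
          exact mul_mem ((pCore_normal p _).conj_mem _ h _) (inv_mem h)
        have h2 := mem_inf.2 ⟨hp', hcQ⟩
        rw [inf_eq_bot_of_isPGroup_coprime (pCore_isPGroup.map _) pPrimeCore_coprime, mem_bot] at h2
        exact hc1 h2
    obtain ⟨A, B, hA, hB, hAB, hBU, hmin, hP⟩ := exists_section (p := p) (fun N => c ∉ N)
      (fun E₁ E₂ _ _ h => by
        by_contra hh
        push Not at hh
        exact h (mem_inf.2 hh))
      (fun N N' _ _ hle h h' => h (hle h')) U pCore_isPGroup (by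
        intro h
        obtain ⟨i, hi⟩ := exists_pow_mem_secKer h
        have hi' : c ^ p ^ i ∈ U := centralizer_pCore_le hL h0 (secKer_bot_le U hi)
        have h2 : f c ^ p ^ i = 1 := by rw [← map_pow]; exact (QuotientGroup.eq_one_iff _).2 hi'
        have h3 : f c ∈ zpowers (f c) ⊓ Qb := ⟨mem_zpowers _, hcQ⟩
        rw [inf_eq_bot_of_isPGroup_coprime (isPGroup_zpowers ⟨i, h2⟩) pPrimeCore_coprime,
          mem_bot] at h3
        exact hc1 h3)
    have hBp : IsPGroup p B := pCore_isPGroup.to_le hBU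
    have hKE : secKer A B ≤ secCore p A B := secKer_le_secCore A B
    have hUker : U ≤ secKer A B :=
      (pPrimePCore_le_secKer hBp pCore_isPGroup hAB hmin ⊤ le_top (sup_top_eq U)).1
    have hquot : ∀ D : Subgroup L, ∀ [D.Normal], B ⊓ D ≤ A → D ≠ ⊥ → Wit p x := by
      intro D _ hD' hD1
      refine wit_of_surjective _ (QuotientGroup.mk'_surjective D)
        (ih _ (isPSolvable_quotient hL _) (by have := card_quotient_lt hD1; omega) _ (hmapp _) ?_)
      intro h
      refine hP (hKE (comap_pPrimePCore_le_secKer (U := U) (D := D) hBp pCore_isPGroup hAB hmin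
        hD' ?_))
      rw [mem_comap, hc]
      simp only [map_mul, map_inv]
      exact mul_mem ((inferInstance : (pPrimePCore p (L ⧸ D)).Normal).conj_mem _ h _) (inv_mem h)
    by_cases hYB : B ⊔ X0 = ⊤
    swap
    · refine wit_of_subgroup (x := (⟨x, mem_sup_right hxX0⟩ : ↥(B ⊔ X0)))
        (ih _ (isPSolvable_subgroup hL _) (by have := card_lt_of_ne_top hYB; omega) _ ?_ ?_)
      · obtain ⟨i, hi⟩ := hxp
        exact ⟨i, Subtype.ext hi⟩
      · intro h
        have hsup : U ⊔ (B ⊔ X0) = ⊤ :=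
          top_le_iff.1 (hY.ge.trans (sup_le le_sup_left (le_sup_right.trans le_sup_right)))
        refine hP (hKE ((pPrimePCore_le_secKer hBp pCore_isPGroup hAB hmin _ le_sup_left hsup).2
          ⟨⟨b, mem_sup_right hbX0⟩ * ⟨x, mem_sup_right hxX0⟩ * ⟨b, mem_sup_right hbX0⟩⁻¹ *
            ⟨x, mem_sup_right hxX0⟩⁻¹, ?_, rfl⟩))
        exact mul_mem ((inferInstance : (pPrimePCore p ↥(B ⊔ X0)).Normal).conj_mem _ h _) (inv_mem h)
    by_cases hA1 : A = ⊥
    swap
    · exact hquot A inf_le_right hA1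
    subst hA1
    have hUC : U ≤ centralizer (B : Set L) := hUker.trans (secKer_bot_le B)
    have hdone : X0 = ⊤ → Wit p x := by
      intro h
      refine ⟨b, fun hc' => hx ?_⟩
      rw [← hX0, h] at hc'
      exact inU_top.1 hc'
    have hnorm : ∀ M : Subgroup L, M.Normal → M ≤ U → (M ⊓ X0).Normal := by
      intro M hM hMU
      rw [← normalizer_eq_top_iff, ← top_le_iff, ← hYB]
      refine sup_le ?_ (le_normalizer_iff.2 fun x hx y hy => mem_inf.2
        ⟨hM.conj_mem y hy.1 x, mul_mem (mul_mem hx hy.2) (inv_mem hx)⟩)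
      refine le_normalizer_iff.2 fun w hw y hy => ?_
      have : w * y * w⁻¹ = y := by rw [hUC (hMU hy.1) w hw, mul_inv_cancel_right]
      rwa [this]
    by_cases hBX : B ⊓ X0 = ⊥
    swap
    · rcases hmin _ (hnorm B hB hBU) bot_le inf_le_left with h | h
      · exact absurd h hBX
      · exact hdone (top_le_iff.1 (hYB.ge.trans (sup_le (h.ge.trans inf_le_right) le_rfl)))
    by_cases hD : U ⊓ X0 = ⊥
    swap
    · haveI := hnorm U inferInstance le_rfl
      refine hquot (U ⊓ X0) ?_ hD
      rw [← hBX]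
      exact inf_le_inf_left _ inf_le_right
    have hUB : U = B := by
      refine le_antisymm (fun z hz => ?_) hBU
      obtain ⟨w, hw, y, hy, rfl⟩ := mem_sup_of_normal_left.1 (hYB ▸ mem_top z)
      have : y ∈ U ⊓ X0 := ⟨by simpa using mul_mem (inv_mem (hBU hw)) hz, hy⟩
      rw [hD, mem_bot] at this
      subst this; simpa using hw
    have hBt : B ≠ ⊤ := fun h => hxU (hBU (h ▸ mem_top x))
    obtain ⟨S, hSn, hcop, hC, hBab⟩ := exists_complement_core hL h0 B hUB
      (fun M hM hle => hmin M hM bot_le hle) hBt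
    have hxC : x ∉ centralizer (B : Set L) := by
      intro h
      rw [← hUB] at h
      exact hxU (centralizer_pCore_le hL h0 h)
    obtain ⟨v, -, hv⟩ := exists_pair_eq_top B S hBab (fun M hM hle => hmin M hM bot_le hle)
      hcop hC hYB hxC
    refine ⟨b * v, fun hc' => hx ?_⟩
    rw [hv] at hc'
    exact inU_top.1 hc'

/-- An element outside `O_{p',p}` of a `p`-soluble subgroup has a witness in that subgroup. -/
theorem inU_of_forall_pair {G : Type u} [Group G] [Finite G] {K : Subgroup G}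
    (hK : IsPSolvable p K) {x : G} (hx : x ∈ K) (hxp : ∃ i : ℕ, x ^ p ^ i = 1)
    (h : ∀ k ∈ K, InU p (closure ({x, k} : Set G)) x) : InU p K x := by
  rw [inU_iff hx]
  by_contra hc
  obtain ⟨i, hi⟩ := hxp
  obtain ⟨k, hk⟩ := wit_aux _ K hK le_rfl ⟨x, hx⟩ ⟨i, Subtype.ext hi⟩ hc
  apply hk
  have hx' : (⟨x, hx⟩ : K) ∈ closure ({⟨x, hx⟩, k} : Set K) := subset_closure (Set.mem_insert _ _)
  rw [inU_iff hx']
  set φ := (MulEquiv.subgroupCongr (closure_pair_map K.subtype ⟨x, hx⟩ k)).toMonoidHom.comp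
    (K.subtype.subgroupMap _) with hφ
  refine comap_pPrimePCore_le φ (fun a b hab => ?_) ?_
  · exact Subtype.ext (Subtype.ext (congrArg (fun z : ↥(closure ({x, (k : G)} : Set G)) =>
      (z : G)) hab))
  · rw [mem_comap]
    exact (inU_iff (subset_closure (Set.mem_insert _ _))).1 (h k k.2)

end CfsgLib.Powell
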